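import Groth.Agent.Lib.ModFlat.TensorCx
import Mathlib.Algebra.Homology.Embedding.CochainComplex
import Mathlib.Algebra.Homology.HomologicalComplexBiprod

/-! # Closure properties of K-flat complexes -/

set_option autoImplicit false
universe u

open CategoryTheory CategoryTheory.Limits Opposite HomologicalComplex

namespace GrothLib.ModFlat

variable {C : Type u} [SmallCategory C] {J : GrothendieckTopology C} {O : Sheaf J CommRingCat.{u}}

attribute [local instance] Abelian.hasFiniteBiproducts

theorem flat_of_isZero {M : ModSite.Mod O} (h : IsZero M) : ModSite.IsFlat M := by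
  refine isFlat_of_isColimit (Discrete.functor (PEmpty.elim : PEmpty.{u+1} → ModSite.Mod O)) (fun k => k.as.elim) (Cofan.mk M (fun k => k.elim)) ?_
  exact mkCofanColimit _ (fun s => 0) (fun s k => k.elim) (fun s m _ => h.eq_of_src _ _)

theorem flat_colimit_nat {F : ℕ ⥤ ModSite.Mod O} {c : Cocone F} (hc : IsColimit c)
    (h : ∀ n, ModSite.IsFlat (F.obj n)) : ModSite.IsFlat c.pt := by
  let e := ULiftHomULiftCategory.equiv.{u, u} ℕ
  exact isFlat_of_filtered (e.inverse ⋙ F) (fun n => h _) (c.whisker e.inverse)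
    ((Functor.Final.isColimitWhiskerEquiv e.inverse c).symm hc)


/-- All terms of a complex are flat. -/
def FlatTerms (K : CochainComplex (ModSite.Mod O) ℤ) : Prop := ∀ n : ℤ, ModSite.IsFlat (K.X n)

theorem isKFlat_iff (K : CochainComplex (ModSite.Mod O) ℤ) :
    ModSite.IsKFlat K ↔ ∀ L : CochainComplex (ModSite.Mod O) ℤ, L.Acyclic →
      (((ModSite.tensorCx O).obj L).obj K).Acyclic :=
  forall_congr' fun L => ⟨fun h hL => (DerCat.acyclic_iff _).2 (h ((DerCat.acyclic_iff L).1 hL)),
    fun h hL => (DerCat.acyclic_iff _).1 (h ((DerCat.acyclic_iff L).2 hL))⟩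

theorem isKFlat_of_iso {K K' : CochainComplex (ModSite.Mod O) ℤ} (e : K ≅ K') (h : ModSite.IsKFlat K) :
    ModSite.IsKFlat K' :=
  (isKFlat_iff K').2 fun L hL =>
    DerCat.acyclic_of_iso (((ModSite.tensorCx O).obj L).mapIso e) ((isKFlat_iff K).1 h L hL)

theorem isKFlat_shift {K : CochainComplex (ModSite.Mod O) ℤ} (h : ModSite.IsKFlat K) (n : ℤ) :
    ModSite.IsKFlat (K⟦n⟧) :=
  (isKFlat_iff _).2 fun L hL => DerCat.acyclic_of_iso
    ((((ModSite.tensorCx O).obj L).commShiftIso n).app K).symm
    (DerCat.acyclic_shift ((isKFlat_iff K).1 h L hL) n)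

theorem flatTerms_shift {K : CochainComplex (ModSite.Mod O) ℤ} (h : FlatTerms K) (n : ℤ) :
    FlatTerms (K⟦n⟧) :=
  fun i => isFlat_of_iso (K.shiftFunctorObjXIso n i _ rfl).symm (h _)

theorem flatTerms_of_iso {K K' : CochainComplex (ModSite.Mod O) ℤ} (e : K ≅ K') (h : FlatTerms K) :
    FlatTerms K' :=
  fun i => isFlat_of_iso ((HomologicalComplex.eval (ModSite.Mod O) _ i).mapIso e) (h i)

theorem isKFlat_sigma {J : Type} [Countable J] (K : J → CochainComplex (ModSite.Mod O) ℤ)
    (h : ∀ j, ModSite.IsKFlat (K j)) : ModSite.IsKFlat (∐ K) :=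
  (isKFlat_iff _).2 fun L hL => DerCat.acyclic_of_iso
    (PreservesCoproduct.iso ((ModSite.tensorCx O).obj L) K).symm
    (DerCat.acyclic_sigma _ fun j => (isKFlat_iff _).1 (h j) L hL)

theorem isKFlat_colimit (F : ℕ ⥤ CochainComplex (ModSite.Mod O) ℤ) (h : ∀ n, ModSite.IsKFlat (F.obj n)) :
    ModSite.IsKFlat (colimit F) :=
  (isKFlat_iff _).2 fun L hL => DerCat.acyclic_of_iso
    (preservesColimitIso ((ModSite.tensorCx O).obj L) F).symm
    (DerCat.acyclic_colimit _ fun n => (isKFlat_iff _).1 (h n) L hL)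

theorem flatTerms_colimit (F : ℕ ⥤ CochainComplex (ModSite.Mod O) ℤ) (h : ∀ n, FlatTerms (F.obj n)) :
    FlatTerms (colimit F) := fun i =>
  flat_colimit_nat (isColimitOfPreserves (HomologicalComplex.eval (ModSite.Mod O) (ComplexShape.up ℤ) i) (colimit.isColimit F))
    fun n => h n i

section TwoOutOfThree

variable {S : ShortComplex (CochainComplex (ModSite.Mod O) ℤ)}
  (hS : ∀ L : CochainComplex (ModSite.Mod O) ℤ, (S.map ((ModSite.tensorCx O).obj L)).ShortExact)

include hS

theorem isKFlat_X₃ (h₁ : ModSite.IsKFlat S.X₁) (h₂ : ModSite.IsKFlat S.X₂) : ModSite.IsKFlat S.X₃ :=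
  (isKFlat_iff _).2 fun L hL =>
    DerCat.acyclic_X₃ (hS L) ((isKFlat_iff _).1 h₁ L hL) ((isKFlat_iff _).1 h₂ L hL)

theorem isKFlat_X₂ (h₁ : ModSite.IsKFlat S.X₁) (h₃ : ModSite.IsKFlat S.X₃) : ModSite.IsKFlat S.X₂ :=
  (isKFlat_iff _).2 fun L hL =>
    DerCat.acyclic_X₂ (hS L) ((isKFlat_iff _).1 h₁ L hL) ((isKFlat_iff _).1 h₃ L hL)

theorem isKFlat_X₁ (h₂ : ModSite.IsKFlat S.X₂) (h₃ : ModSite.IsKFlat S.X₃) : ModSite.IsKFlat S.X₁ :=
  (isKFlat_iff _).2 fun L hL =>
    DerCat.acyclic_X₁ (hS L) ((isKFlat_iff _).1 h₂ L hL) ((isKFlat_iff _).1 h₃ L hL)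

end TwoOutOfThree

theorem tensorCx_shortExact_of_flat {S : ShortComplex (CochainComplex (ModSite.Mod O) ℤ)} (hS : S.ShortExact)
    (h₃ : FlatTerms S.X₃) (L : CochainComplex (ModSite.Mod O) ℤ) :
    (S.map ((ModSite.tensorCx O).obj L)).ShortExact :=
  tensorCx_map_shortExact L S fun M q =>
    tensor_left_shortExact M (hS.map_of_exact (HomologicalComplex.eval (ModSite.Mod O) _ q)) (h₃ q)

theorem tensorCx_shortExact_of_splitting {S : ShortComplex (CochainComplex (ModSite.Mod O) ℤ)}
    (σ : ∀ q, (S.map (HomologicalComplex.eval (ModSite.Mod O) (ComplexShape.up ℤ) q)).Splitting)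
    (L : CochainComplex (ModSite.Mod O) ℤ) : (S.map ((ModSite.tensorCx O).obj L)).ShortExact :=
  tensorCx_map_shortExact L S fun M q => ((σ q).map ((ModSite.tensorBi O).obj M)).shortExact

theorem flatTerms_extension {S : ShortComplex (CochainComplex (ModSite.Mod O) ℤ)} (hS : S.ShortExact)
    (h₁ : FlatTerms S.X₁) (h₃ : FlatTerms S.X₃) : FlatTerms S.X₂ := fun q =>
  isFlat_middle_of_shortExact _ (hS.map_of_exact (HomologicalComplex.eval (ModSite.Mod O) _ q)) (h₁ q) (h₃ q)

/-- The short complex `L ⟶ cone φ ⟶ K⟦1⟧`. -/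
noncomputable def coneShortComplex {K L : CochainComplex (ModSite.Mod O) ℤ} (φ : K ⟶ L) :
    ShortComplex (CochainComplex (ModSite.Mod O) ℤ) :=
  ShortComplex.mk (CochainComplex.mappingCone.inr φ) (CochainComplex.mappingCone.triangle φ).mor₃
    (CochainComplex.mappingCone.inr_triangleδ φ)

set_option backward.isDefEq.respectTransparency false in
/-- It splits in each degree. -/
noncomputable def coneSplitting {K L : CochainComplex (ModSite.Mod O) ℤ} (φ : K ⟶ L) (q : ℤ) :
    ((coneShortComplex φ).map (HomologicalComplex.eval (ModSite.Mod O) (ComplexShape.up ℤ) q)).Splitting where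
  r := (CochainComplex.mappingCone.snd φ).v q q (add_zero q)
  s := -((K.shiftFunctorObjXIso 1 q (q + 1) rfl).hom ≫
    (CochainComplex.mappingCone.inl φ).v (q + 1) q (by omega))
  f_r := CochainComplex.mappingCone.inr_f_snd_v φ q
  s_g := by
    change (-((K.shiftFunctorObjXIso 1 q (q + 1) rfl).hom ≫
      (CochainComplex.mappingCone.inl φ).v (q + 1) q (by omega))) ≫
      (CochainComplex.mappingCone.triangle φ).mor₃.f q = 𝟙 _
    rw [Preadditive.neg_comp, Category.assoc, CochainComplex.mappingCone.inl_v_triangle_mor₃_f,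
      Preadditive.comp_neg, neg_neg, Iso.hom_inv_id]
  id := by
    dsimp [coneShortComplex]
    refine CochainComplex.mappingCone.ext_from φ (q + 1) q rfl ?_ ?_ <;> simp
    · exact (Category.id_comp _).trans (Category.comp_id _).symm
    · exact (Category.comp_id _).symm

theorem isKFlat_mappingCone {K L : CochainComplex (ModSite.Mod O) ℤ} (φ : K ⟶ L) (hK : ModSite.IsKFlat K)
    (hL : ModSite.IsKFlat L) : ModSite.IsKFlat (CochainComplex.mappingCone φ) :=
  isKFlat_X₂ (S := coneShortComplex φ) (tensorCx_shortExact_of_splitting (coneSplitting φ)) hL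
    (isKFlat_shift hK 1)

theorem flatTerms_mappingCone {K L : CochainComplex (ModSite.Mod O) ℤ} (φ : K ⟶ L) (hK : FlatTerms K)
    (hL : FlatTerms L) : FlatTerms (CochainComplex.mappingCone φ) :=
  flatTerms_extension (S := coneShortComplex φ)
    (HomologicalComplex.shortExact_of_degreewise_shortExact _ fun q => (coneSplitting φ q).shortExact)
    hL (flatTerms_shift hK 1)

section Biprod

variable (K L : CochainComplex (ModSite.Mod O) ℤ)

theorem isKFlat_biprod {K L : CochainComplex (ModSite.Mod O) ℤ} (hK : ModSite.IsKFlat K) (hL : ModSite.IsKFlat L) :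
    ModSite.IsKFlat (K ⊞ L) :=
  isKFlat_X₂ (S := ShortComplex.mk (biprod.inl : K ⟶ K ⊞ L) biprod.snd biprod.inl_snd)
    (fun M => ((ShortComplex.Splitting.ofHasBinaryBiproduct K L).map ((ModSite.tensorCx O).obj M)).shortExact)
    hK hL

theorem flatTerms_biprod {K L : CochainComplex (ModSite.Mod O) ℤ} (hK : FlatTerms K) (hL : FlatTerms L) :
    FlatTerms (K ⊞ L) :=
  flatTerms_extension (S := ShortComplex.mk (biprod.inl : K ⟶ K ⊞ L) biprod.snd biprod.inl_snd)
    (ShortComplex.Splitting.ofHasBinaryBiproduct K L).shortExact hK hL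

end Biprod

section Single

variable (L : CochainComplex (ModSite.Mod O) ℤ) (F : (ModSite.Mod O))

/-- Tensoring with a module placed in degree zero. -/
noncomputable def singleIso :
    (((ModSite.tensorBi O).flip.obj F).mapHomologicalComplex (ComplexShape.up ℤ)).obj L ≅
      ((ModSite.tensorCx O).obj L).obj ((HomologicalComplex.single (ModSite.Mod O) (ComplexShape.up ℤ) 0).obj F) :=
  HomologicalComplex.Hom.isoOfComponents
    (fun n =>
      { hom := ((ModSite.tensorBi O).obj (L.X n)).map (HomologicalComplex.singleObjXSelf (ComplexShape.up ℤ) 0 F).inv ≫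
          HomologicalComplex.ιMapBifunctor L _ (ModSite.tensorBi O) (ComplexShape.up ℤ) n 0 n (add_zero n)
        inv := HomologicalComplex.mapBifunctorDesc fun p q h =>
          if hq : q = 0 then
            ((ModSite.tensorBi O).obj (L.X p)).map
                (eqToHom (congrArg _ hq) ≫ (HomologicalComplex.singleObjXSelf (ComplexShape.up ℤ) 0 F).hom) ≫
              eqToHom (congrArg (fun k => ((ModSite.tensorBi O).obj (L.X k)).obj F) (show p = n by
                have h' : p + q = n := h
                omega))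
          else 0
        hom_inv_id := by
          erw [Category.assoc, HomologicalComplex.ι_mapBifunctorDesc]
          rw [dif_pos rfl]
          erw [Category.id_comp, Category.comp_id, ← Functor.map_comp, Iso.inv_hom_id, CategoryTheory.Functor.map_id]
          rfl
        inv_hom_id := by
          refine HomologicalComplex.mapBifunctor.hom_ext fun p q h => ?_
          erw [← Category.assoc, HomologicalComplex.ι_mapBifunctorDesc, Category.comp_id]
          by_cases hq : q = 0
          · subst hq
            obtain rfl : p = n := by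
              have h' : p + 0 = n := h
              omega
            rw [dif_pos rfl]
            erw [Category.id_comp, Category.comp_id, ← Category.assoc, ← Functor.map_comp, Iso.hom_inv_id,
              CategoryTheory.Functor.map_id, Category.id_comp]
          · exact (((ModSite.tensorBi O).obj (L.X p)).map_isZero
              (HomologicalComplex.isZero_single_obj_X _ 0 F q hq)).eq_of_src _ _ })
    (fun n m (hnm : n + 1 = m) => by
      subst hnm
      change (_ ≫ _) ≫ (HomologicalComplex.mapBifunctor L _ (ModSite.tensorBi O) (ComplexShape.up ℤ)).d n (n + 1) =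
        ((ModSite.tensorBi O).map (L.d n (n + 1))).app F ≫ _
      simp only [HomologicalComplex.mapBifunctor.d_eq, Preadditive.comp_add, Category.assoc,
        HomologicalComplex.mapBifunctor.ι_D₁, HomologicalComplex.mapBifunctor.ι_D₂]
      rw [HomologicalComplex.mapBifunctor.d₁_eq _ _ _ _ (show (ComplexShape.up ℤ).Rel n (n + 1) from rfl) 0 (n + 1)
          (add_zero (n + 1)),
        HomologicalComplex.mapBifunctor.d₂_eq _ _ _ _ _ (show (ComplexShape.up ℤ).Rel 0 1 from (zero_add 1)) (n + 1)
          rfl]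
      simp [((ModSite.tensorBi O).map (L.d n (n + 1))).naturality_assoc]
      rfl)

theorem isKFlat_single (F : (ModSite.Mod O)) (hF : ModSite.IsFlat F) (a : ℤ) :
    ModSite.IsKFlat ((HomologicalComplex.single (ModSite.Mod O) (ComplexShape.up ℤ) a).obj F) := by
  refine isKFlat_of_iso (((CochainComplex.singleFunctors (ModSite.Mod O)).shiftIso (-a) a 0 (by omega)).app F)
    (isKFlat_shift ((isKFlat_iff _).2 fun L hL => DerCat.acyclic_of_iso (singleIso L F) fun i => ?_) (-a))
  refine ShortComplex.exact_of_iso (Iso.refl _) ?_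
  have : ((ModSite.tensorBi O).flip.obj F).PreservesHomology :=
    have := additive_T F
    (((ModSite.tensorBi O).flip.obj F).exact_tfae.out 2 0).2 fun S hS => tensor_map_shortExact hF hS
  exact (hL i).map ((ModSite.tensorBi O).flip.obj F)

theorem flatTerms_single (F : (ModSite.Mod O)) (hF : ModSite.IsFlat F) (a : ℤ) :
    FlatTerms ((HomologicalComplex.single (ModSite.Mod O) (ComplexShape.up ℤ) a).obj F) := fun n => by
  by_cases hn : n = a
  · subst hn
    exact isFlat_of_iso (HomologicalComplex.singleObjXSelf (ComplexShape.up ℤ) n F).symm hF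
  · exact flat_of_isZero (HomologicalComplex.isZero_single_obj_X _ a F n hn)

end Single

theorem isKFlat_of_isZero {K : CochainComplex (ModSite.Mod O) ℤ} (h : IsZero K) : ModSite.IsKFlat K :=
  (isKFlat_iff _).2 fun L _ i =>
    ShortComplex.exact_of_isZero_X₂ _
      ((HomologicalComplex.eval (ModSite.Mod O) _ i).map_isZero (((ModSite.tensorCx O).obj L).map_isZero h))

end GrothLib.ModFlat

namespace GrothLib.ModFlat

variable {C : Type u} [SmallCategory C] {J : GrothendieckTopology C} {O : Sheaf J CommRingCat.{u}}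

theorem isKFlat_cone_two_out_of_three {K L : CochainComplex (ModSite.Mod O) ℤ} (φ : K ⟶ L) :
    (ModSite.IsKFlat K → ModSite.IsKFlat (CochainComplex.mappingCone φ) → ModSite.IsKFlat L) ∧
    (ModSite.IsKFlat L → ModSite.IsKFlat (CochainComplex.mappingCone φ) → ModSite.IsKFlat K) := by
  have hT : ∀ M, ((coneShortComplex φ).map ((ModSite.tensorCx O).obj M)).ShortExact :=
    tensorCx_shortExact_of_splitting (coneSplitting φ)
  refine ⟨fun h1 h3 => isKFlat_X₁ (S := coneShortComplex φ) hT h3 (isKFlat_shift h1 1), fun h2 h3 => ?_⟩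
  have h := isKFlat_shift (isKFlat_X₃ (S := coneShortComplex φ) hT h2 h3) (-1)
  exact isKFlat_of_iso ((shiftFunctorCompIsoId (CochainComplex (ModSite.Mod O) ℤ) (1 : ℤ) (-1) (by omega)).app K) h

end GrothLib.ModFlat
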