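import Groth.Agent.Lib.ModFlat.Resolution
import Mathlib.Algebra.Homology.BifunctorHomotopy
import Mathlib.Algebra.Homology.BifunctorFlip

/-! # Symmetry of the tensor product of complexes, and acyclic K-flat complexes -/

set_option autoImplicit false
set_option maxHeartbeats 3200000
set_option synthInstance.maxHeartbeats 100000
universe u

open CategoryTheory CategoryTheory.Limits GrothLib.SheafCoh HomologicalComplex

namespace GrothLib.ModFlat

section QI

variable {A : Type*} [Category A] [Abelian A] {S : ShortComplex (CochainComplex A ℤ)} (hS : S.ShortExact)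

include hS

/-- With acyclic quotient, the inclusion is a quasi-isomorphism. -/
theorem quasiIso_f_of_acyclic (h : S.X₃.Acyclic) : QuasiIso S.f := by
  rw [DerCat.acyclic_iff] at h
  refine (quasiIso_iff _).2 fun i => (quasiIsoAt_iff_isIso_homologyMap _ i).2 ?_
  have : Mono (homologyMap S.f i) :=
    (hS.homology_exact₁ (i - 1) i (show i - 1 + 1 = i by omega)).mono_g ((h (i - 1)).eq_of_src _ _)
  have : Epi (homologyMap S.f i) := (hS.homology_exact₂ i).epi_f ((h i).eq_of_tgt _ _)
  exact isIso_of_mono_of_epi _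

/-- With acyclic kernel, the projection is a quasi-isomorphism. -/
theorem quasiIso_g_of_acyclic (h : S.X₁.Acyclic) : QuasiIso S.g := by
  rw [DerCat.acyclic_iff] at h
  refine (quasiIso_iff _).2 fun i => (quasiIsoAt_iff_isIso_homologyMap _ i).2 ?_
  have : Mono (homologyMap S.g i) := (hS.homology_exact₂ i).mono_g ((h i).eq_of_src _ _)
  have : Epi (homologyMap S.g i) := (hS.homology_exact₃ i (i + 1) rfl).epi_f ((h (i + 1)).eq_of_tgt _ _)
  exact isIso_of_mono_of_epi _

/-- Conversely. -/
theorem acyclic_X₃_of_quasiIso [QuasiIso S.f] : S.X₃.Acyclic := by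
  refine (DerCat.acyclic_iff _).2 fun i => (hS.homology_exact₃ i (i + 1) rfl).isZero_of_both_zeros ?_ ?_
  · have h := (S.map (homologyFunctor A (ComplexShape.up ℤ) i)).zero
    exact (cancel_epi (homologyMap S.f i)).1 (h.trans comp_zero.symm)
  · exact (cancel_mono (homologyMap S.f (i + 1))).1 ((hS.δ_comp i (i + 1) rfl).trans zero_comp.symm)


omit hS in
theorem shortExact_cokernel {B : Type*} [Category B] [Abelian B] {X Y : B} (f : X ⟶ Y) [Mono f] :
    (ShortComplex.mk f (cokernel.π f) (cokernel.condition f)).ShortExact :=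
  ShortComplex.ShortExact.mk' (ShortComplex.exact_of_g_is_cokernel _ (cokernelIsCokernel f)) inferInstance inferInstance

end QI

variable {C : Type u} [SmallCategory C] {J : GrothendieckTopology C} {O : Sheaf J CommRingCat.{u}}

attribute [local instance] Abelian.hasFiniteBiproducts

instance additive_flip : (ModSite.tensorBi O).flip.Additive where
  map_add {N N' f g} := NatTrans.ext (funext fun M => ((ModSite.tensorBi O).obj M).map_add)

instance additive_flip_obj (N : ModSite.Mod O) : ((ModSite.tensorBi O).flip.obj N).Additive :=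
  additive_T N

instance preservesZero_flip : (ModSite.tensorBi O).flip.PreservesZeroMorphisms :=
  Functor.preservesZeroMorphisms_of_additive _

instance preservesZero_flip_obj (N : ModSite.Mod O) : ((ModSite.tensorBi O).flip.obj N).PreservesZeroMorphisms :=
  Functor.preservesZeroMorphisms_of_additive _

/-- The bicomplexes of the flipped and of the plain tensor product agree. -/
noncomputable def bicxBraiding (L K : CochainComplex (ModSite.Mod O) ℤ) :
    (((ModSite.tensorBi O).flip.mapBifunctorHomologicalComplex (ComplexShape.up ℤ) (ComplexShape.up ℤ)).obj L).obj K ≅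
      (((ModSite.tensorBi O).mapBifunctorHomologicalComplex (ComplexShape.up ℤ) (ComplexShape.up ℤ)).obj L).obj K :=
  HomologicalComplex.Hom.isoOfComponents
    (fun i => HomologicalComplex.Hom.isoOfComponents
      (fun j => ((tensorSymm O).symm.app (L.X i)).app (K.X j))
      (fun j j' _ => ((tensorSymm O).symm.hom.app (L.X i)).naturality (K.d j j') |>.symm))
    (fun i i' _ => HomologicalComplex.hom_ext _ _ fun j =>
      (NatTrans.congr_app ((tensorSymm O).symm.hom.naturality (L.d i i')) (K.X j)).symm)

/-- The tensor product of complexes is symmetric. -/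
noncomputable def tensorCxSymm (K L : CochainComplex (ModSite.Mod O) ℤ) :
    ((ModSite.tensorCx O).obj L).obj K ≅ ((ModSite.tensorCx O).obj K).obj L :=
  (HomologicalComplex₂.total.mapIso (bicxBraiding L K) (ComplexShape.up ℤ)).symm ≪≫
    HomologicalComplex.mapBifunctorFlipIso K L (ModSite.tensorBi O) (ComplexShape.up ℤ)

/-- An acyclic K-flat complex is killed by every tensor product. -/
theorem acyclic_tensor_of_acyclic_isKFlat {C : CochainComplex (ModSite.Mod O) ℤ} (hC : C.Acyclic)
    (hK : ModSite.IsKFlat C) (F : CochainComplex (ModSite.Mod O) ℤ) :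
    (((ModSite.tensorCx O).obj F).obj C).Acyclic := by
  obtain ⟨M, q, hM, -, hq, -⟩ := exists_kflat_resolution F
  have h₁ : (((ModSite.tensorCx O).obj C).obj (CochainComplex.mappingCone q)).Acyclic :=
    DerCat.acyclic_of_iso (tensorCxSymm C _)
      ((isKFlat_iff C).1 hK _ ((DerCat.quasiIso_iff_acyclic_mappingCone q).1 hq))
  have h₂ : (((ModSite.tensorCx O).obj C).obj (M⟦(1 : ℤ)⟧)).Acyclic :=
    (isKFlat_iff _).1 (isKFlat_shift hM 1) C hC
  exact DerCat.acyclic_of_iso (tensorCxSymm C F).symm
    (DerCat.acyclic_X₁ (tensorCx_shortExact_of_splitting (coneSplitting q) C) h₁ h₂)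

end GrothLib.ModFlat



namespace GrothLib.ModFlat

variable {C : Type u} [SmallCategory C] {J : GrothendieckTopology C} {O : Sheaf J CommRingCat.{u}}

attribute [local instance] Abelian.hasFiniteBiproducts

/-- Tensoring a quasi-isomorphism of K-flat complexes gives a quasi-isomorphism. -/
theorem quasiIso_tensor_map {P Q : CochainComplex (ModSite.Mod O) ℤ} (α : P ⟶ Q) [QuasiIso α] (hP : ModSite.IsKFlat P)
    (hQ : ModSite.IsKFlat Q) (F : CochainComplex (ModSite.Mod O) ℤ) :
    QuasiIso (((ModSite.tensorCx O).obj F).map α) := by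
  have hC : (CochainComplex.mappingCone (𝟙 P)).Acyclic :=
    (DerCat.quasiIso_iff_acyclic_mappingCone (𝟙 P)).1 inferInstance
  have hCK : ModSite.IsKFlat (CochainComplex.mappingCone (𝟙 P)) := isKFlat_mappingCone _ hP hP
  let j : P ⟶ Q ⊞ CochainComplex.mappingCone (𝟙 P) := biprod.lift α (CochainComplex.mappingCone.inr (𝟙 P))
  let σ : (ShortComplex.mk (biprod.inr : CochainComplex.mappingCone (𝟙 P) ⟶ Q ⊞ _) biprod.fst
      biprod.inr_fst).Splitting :=
    { r := biprod.snd, s := biprod.inl, f_r := biprod.inr_snd, s_g := biprod.inl_fst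
      id := (add_comm _ _).trans biprod.total }
  have hfst : QuasiIso (biprod.fst : Q ⊞ CochainComplex.mappingCone (𝟙 P) ⟶ Q) :=
    quasiIso_g_of_acyclic σ.shortExact hC
  have hj : QuasiIso j :=
    have : QuasiIso (j ≫ biprod.fst) := by rw [biprod.lift_fst]; infer_instance
    quasiIso_of_comp_right j biprod.fst
  have hr : ∀ n, j.f n ≫ (biprod.snd : Q ⊞ CochainComplex.mappingCone (𝟙 P) ⟶ _).f n ≫
      (CochainComplex.mappingCone.snd (𝟙 P)).v n n (add_zero n) = 𝟙 (P.X n) := fun n => by
    rw [← Category.assoc, ← HomologicalComplex.comp_f, biprod.lift_snd, CochainComplex.mappingCone.inr_f_snd_v]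
  have : Mono j :=
    HomologicalComplex.mono_of_mono_f j fun n => (SplitMono.mk _ (hr n)).mono
  let S : ShortComplex (CochainComplex (ModSite.Mod O) ℤ) := ShortComplex.mk j (cokernel.π j) (cokernel.condition j)
  have hS : S.ShortExact := shortExact_cokernel j
  have hsp : ∀ n, (S.map (HomologicalComplex.eval (ModSite.Mod O) (ComplexShape.up ℤ) n)).Splitting := fun n =>
    have := (hS.map_of_exact (HomologicalComplex.eval (ModSite.Mod O) (ComplexShape.up ℤ) n)).epi_g
    ShortComplex.Splitting.ofExactOfRetraction _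
      (hS.map_of_exact (HomologicalComplex.eval (ModSite.Mod O) (ComplexShape.up ℤ) n)).exact _ (hr n) this
  have hFS := tensorCx_shortExact_of_splitting hsp
  have hK₃ : ModSite.IsKFlat S.X₃ := isKFlat_X₃ hFS hP (isKFlat_biprod hQ hCK)
  have : QuasiIso S.f := hj
  have hA₃ := acyclic_tensor_of_acyclic_isKFlat (acyclic_X₃_of_quasiIso hS) hK₃ F
  have hT₁ : QuasiIso (((ModSite.tensorCx O).obj F).map j) := quasiIso_f_of_acyclic (hFS F) hA₃
  have hT₂ : QuasiIso (((ModSite.tensorCx O).obj F).map
      (biprod.fst : Q ⊞ CochainComplex.mappingCone (𝟙 P) ⟶ Q)) :=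
    quasiIso_g_of_acyclic (σ.map ((ModSite.tensorCx O).obj F)).shortExact
      (acyclic_tensor_of_acyclic_isKFlat hC hCK F)
  rw [show α = j ≫ biprod.fst from (biprod.lift_fst _ _).symm, Functor.map_comp]
  exact quasiIso_comp _ _

end GrothLib.ModFlat

namespace GrothLib.ModFlat

variable {C : Type u} [SmallCategory C] {J : GrothendieckTopology C} {O : Sheaf J CommRingCat.{u}}

attribute [local instance] Abelian.hasFiniteBiproducts

theorem bicxBraiding_natural {L L' : CochainComplex (ModSite.Mod O) ℤ} (φ : L ⟶ L') (K : CochainComplex (ModSite.Mod O) ℤ) :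
    (((ModSite.tensorBi O).mapBifunctorHomologicalComplex (ComplexShape.up ℤ) (ComplexShape.up ℤ)).map φ).app K ≫
        (bicxBraiding L' K).inv =
      (bicxBraiding L K).inv ≫
        (((ModSite.tensorBi O).flip.mapBifunctorHomologicalComplex (ComplexShape.up ℤ) (ComplexShape.up ℤ)).map φ).app K :=
  HomologicalComplex.hom_ext _ _ fun i => HomologicalComplex.hom_ext _ _ fun j =>
    NatTrans.congr_app ((tensorSymm O).symm.inv.naturality (φ.f i)) (K.X j)

/-- The symmetry of the tensor product of complexes is natural. -/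
theorem tensorCxSymm_natural {K K' : CochainComplex (ModSite.Mod O) ℤ} (φ : K ⟶ K') (E : CochainComplex (ModSite.Mod O) ℤ) :
    ((ModSite.tensorCx O).map φ).app E ≫ (tensorCxSymm E K').hom =
      (tensorCxSymm E K).hom ≫ ((ModSite.tensorCx O).obj E).map φ := by
  let Fb := (ModSite.tensorBi O).mapBifunctorHomologicalComplex (ComplexShape.up ℤ) (ComplexShape.up ℤ)
  let Fl := (ModSite.tensorBi O).flip.mapBifunctorHomologicalComplex (ComplexShape.up ℤ) (ComplexShape.up ℤ)
  have hb : ((Fb.map φ).app E ≫ (Fb.obj K').map (𝟙 E)) ≫ (bicxBraiding K' E).inv =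
      (bicxBraiding K E).inv ≫ ((Fl.map φ).app E ≫ (Fl.obj K').map (𝟙 E)) := by
    rw [CategoryTheory.Functor.map_id, CategoryTheory.Functor.map_id]
    exact (congrArg (· ≫ _) (Category.comp_id _)).trans
      ((bicxBraiding_natural φ E).trans (congrArg (_ ≫ ·) (Category.comp_id _)).symm)
  have hm : ((ModSite.tensorCx O).map φ).app E =
      HomologicalComplex.mapBifunctorMap φ (𝟙 E) (ModSite.tensorBi O) (ComplexShape.up ℤ) := rfl
  have h1 : ((ModSite.tensorCx O).map φ).app E ≫
      (HomologicalComplex₂.total.mapIso (bicxBraiding K' E) (ComplexShape.up ℤ)).inv =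
      (HomologicalComplex₂.total.mapIso (bicxBraiding K E) (ComplexShape.up ℤ)).inv ≫
        HomologicalComplex.mapBifunctorMap φ (𝟙 E) (ModSite.tensorBi O).flip (ComplexShape.up ℤ) := by
    rw [hm]
    exact (HomologicalComplex₂.total.map_comp _ _ _).symm.trans
      ((congrArg (fun t => HomologicalComplex₂.total.map t (ComplexShape.up ℤ)) hb).trans
        (HomologicalComplex₂.total.map_comp _ _ _))
  have h2 := HomologicalComplex.mapBifunctorFlipIso_hom_naturality (K₁ := E) (L₁ := E) (𝟙 E) φ
    (ModSite.tensorBi O) (ComplexShape.up ℤ)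
  exact ((Category.assoc _ _ _).symm.trans (congrArg (· ≫ _) h1)).trans
    ((Category.assoc _ _ _).trans ((congrArg (_ ≫ ·) h2).trans (Category.assoc _ _ _).symm))

/-- Tensoring on the right is tensoring on the left. -/
noncomputable def tensorFlipIso (E : CochainComplex (ModSite.Mod O) ℤ) :
    (ModSite.tensorCx O).flip.obj E ≅ (ModSite.tensorCx O).obj E :=
  NatIso.ofComponents (fun K => tensorCxSymm E K) fun φ => tensorCxSymm_natural φ E

/-- Tensoring a quasi-isomorphism with a K-flat complex gives a quasi-isomorphism. -/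
theorem quasiIso_tensor_map_of_isKFlat {P Q : CochainComplex (ModSite.Mod O) ℤ} (α : P ⟶ Q) [QuasiIso α]
    (F : CochainComplex (ModSite.Mod O) ℤ) (hF : ModSite.IsKFlat F) :
    QuasiIso (((ModSite.tensorCx O).obj F).map α) := by
  have hC : (CochainComplex.mappingCone (𝟙 P)).Acyclic :=
    (DerCat.quasiIso_iff_acyclic_mappingCone (𝟙 P)).1 inferInstance
  have hz : ∀ C : CochainComplex (ModSite.Mod O) ℤ, C.Acyclic → (((ModSite.tensorCx O).obj F).obj C).Acyclic :=
    fun C hC => DerCat.acyclic_of_iso (tensorCxSymm C F).symm ((isKFlat_iff F).1 hF C hC)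
  let j : P ⟶ Q ⊞ CochainComplex.mappingCone (𝟙 P) := biprod.lift α (CochainComplex.mappingCone.inr (𝟙 P))
  let σ : (ShortComplex.mk (biprod.inr : CochainComplex.mappingCone (𝟙 P) ⟶ Q ⊞ _) biprod.fst
      biprod.inr_fst).Splitting :=
    { r := biprod.snd, s := biprod.inl, f_r := biprod.inr_snd, s_g := biprod.inl_fst
      id := (add_comm _ _).trans biprod.total }
  have hfst : QuasiIso (biprod.fst : Q ⊞ CochainComplex.mappingCone (𝟙 P) ⟶ Q) :=
    quasiIso_g_of_acyclic σ.shortExact hC
  have hj : QuasiIso j :=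
    have : QuasiIso (j ≫ biprod.fst) := by rw [biprod.lift_fst]; infer_instance
    quasiIso_of_comp_right j biprod.fst
  have hr : ∀ n, j.f n ≫ (biprod.snd : Q ⊞ CochainComplex.mappingCone (𝟙 P) ⟶ _).f n ≫
      (CochainComplex.mappingCone.snd (𝟙 P)).v n n (add_zero n) = 𝟙 (P.X n) := fun n => by
    rw [← Category.assoc, ← HomologicalComplex.comp_f, biprod.lift_snd, CochainComplex.mappingCone.inr_f_snd_v]
  have : Mono j :=
    HomologicalComplex.mono_of_mono_f j fun n => (SplitMono.mk _ (hr n)).mono
  let S : ShortComplex (CochainComplex (ModSite.Mod O) ℤ) := ShortComplex.mk j (cokernel.π j) (cokernel.condition j)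
  have hS : S.ShortExact := shortExact_cokernel j
  have hsp : ∀ n, (S.map (HomologicalComplex.eval (ModSite.Mod O) (ComplexShape.up ℤ) n)).Splitting := fun n =>
    have := (hS.map_of_exact (HomologicalComplex.eval (ModSite.Mod O) (ComplexShape.up ℤ) n)).epi_g
    ShortComplex.Splitting.ofExactOfRetraction _
      (hS.map_of_exact (HomologicalComplex.eval (ModSite.Mod O) (ComplexShape.up ℤ) n)).exact _ (hr n) this
  have hFS := tensorCx_shortExact_of_splitting hsp
  have : QuasiIso S.f := hj
  have hA₃ := hz _ (acyclic_X₃_of_quasiIso hS)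
  have hT₁ : QuasiIso (((ModSite.tensorCx O).obj F).map j) := quasiIso_f_of_acyclic (hFS F) hA₃
  have hT₂ : QuasiIso (((ModSite.tensorCx O).obj F).map
      (biprod.fst : Q ⊞ CochainComplex.mappingCone (𝟙 P) ⟶ Q)) :=
    quasiIso_g_of_acyclic (σ.map ((ModSite.tensorCx O).obj F)).shortExact
      (hz _ hC)
  rw [show α = j ≫ biprod.fst from (biprod.lift_fst _ _).symm, Functor.map_comp]
  exact quasiIso_comp _ _

theorem quasiIso_map_of_isKFlat {P Q : CochainComplex (ModSite.Mod O) ℤ} (α : P ⟶ Q) [QuasiIso α]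
    (E : CochainComplex (ModSite.Mod O) ℤ) (hE : ModSite.IsKFlat E) :
    QuasiIso (((ModSite.tensorCx O).flip.obj E).map α) :=
  (quasiIso_iff_of_arrow_mk_iso _ _ (Arrow.isoMk ((tensorFlipIso E).app P) ((tensorFlipIso E).app Q)
    ((tensorFlipIso E).hom.naturality α).symm)).2 (quasiIso_tensor_map_of_isKFlat α E hE)

end GrothLib.ModFlat
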