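import Groth.Agent.Lib.SheafCoh.TensorShf
import Groth.Agent.Lib.SheafCoh.TensorInj
import Mathlib.Algebra.Homology.ShortComplex.ExactFunctor
import Mathlib.Algebra.Category.ModuleCat.Presheaf.Free
import Mathlib.CategoryTheory.Abelian.GrothendieckAxioms.Colim
import Mathlib.RingTheory.Flat.Basic

/-! # Flat sheaves of modules on a site -/

universe v u

open CategoryTheory MonoidalCategory Opposite Limits GrothLib.SheafCoh

namespace GrothLib.ModFlat

variable {C : Type u} [SmallCategory C] {J : GrothendieckTopology C} {O : Sheaf J CommRingCat.{u}}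

/-- `M ↦ M ⊗ N` -/
noncomputable abbrev T (N : ModSite.Mod O) : ModSite.Mod O ⥤ ModSite.Mod O :=
  (ModSite.tensorBi O).flip.obj N

theorem isLeftAdjoint_T (N : ModSite.Mod O) : (T N).IsLeftAdjoint := hasSheafHom O N

theorem preservesColimits_T (N : ModSite.Mod O) : PreservesColimitsOfSize.{u, u} (T N) :=
  haveI := isLeftAdjoint_T N
  inferInstance

theorem preservesFiniteColimits_T (N : ModSite.Mod O) : PreservesFiniteColimits (T N) :=
  haveI := preservesColimits_T N
  PreservesColimits.preservesFiniteColimits _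

theorem additive_T (N : ModSite.Mod O) : (T N).Additive :=
  haveI := isLeftAdjoint_T N
  haveI : PreservesBinaryBiproducts (T N) := preservesBinaryBiproducts_of_preservesBinaryCoproducts _
  Functor.additive_of_preservesBinaryBiproducts _

theorem isFlat_iff (N : ModSite.Mod O) : ModSite.IsFlat N ↔ (T N).PreservesMonomorphisms := by
  refine ⟨fun h => ?_, fun h => ⟨?_, preservesFiniteColimits_T N⟩⟩
  · have : PreservesFiniteLimits (T N) := h.1
    infer_instance
  · have := additive_T N
    have := preservesFiniteColimits_T N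
    rw [Functor.preservesFiniteLimits_iff_forall_exact_map_and_mono]
    intro S hS
    have := hS.mono_f
    have := hS.epi_g
    exact ⟨hS.exact.map_of_epi_of_preservesCokernel (T N) inferInstance inferInstance,
      inferInstanceAs (Mono ((T N).map S.f))⟩

theorem preservesMono_tensorRight (R : Cᵒᵖ ⥤ CommRingCat.{u})
    (P : PresheafOfModules.{u} (R ⋙ forget₂ CommRingCat.{u} RingCat.{u}))
    (hP : ∀ X, Module.Flat (R.obj X) (P.obj X)) {M M' : PresheafOfModules.{u} (R ⋙ forget₂ CommRingCat.{u} RingCat.{u})}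
    (f : M ⟶ M') [Mono f] : Mono (f ▷ P) := by
  apply Functor.mono_of_mono_map (PresheafOfModules.toPresheaf _)
  refine @NatTrans.mono_of_mono_app _ _ _ _ _ _ _ fun X => ?_
  rw [AddCommGrpCat.mono_iff_injective]
  have : Mono ((PresheafOfModules.evaluation _ X).map f) := Functor.map_mono _ _
  have hf : Function.Injective (f.app X) := (ModuleCat.mono_iff_injective _).1 this
  have := hP X
  exact Module.Flat.rTensor_preserves_injective_linearMap (R := R.obj X) (M := P.obj X) (f.app X).hom hf

theorem isFlat_of_iso {M N : ModSite.Mod O} (e : M ≅ N) (h : ModSite.IsFlat M) : ModSite.IsFlat N := by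
  rw [isFlat_iff] at h ⊢
  exact Functor.PreservesMonomorphisms.of_iso ((ModSite.tensorBi O).flip.mapIso e)

/-- `M ⊗ P` and `M ⊗ aP` have the same sheafification -/
noncomputable def unitIso (P : PMod' O) : forgetP O ⋙ tensorRight P ⋙ shf O ≅
    forgetP O ⋙ tensorRight ((forgetP O).obj ((shf O).obj P)) ⋙ shf O :=
  NatIso.ofComponents (fun M => @asIso _ _ _ _ _ (isIso_shf_map_whiskerLeft_unit O ((forgetP O).obj M) P))
    (fun {M M'} f => by
      dsimp
      rw [← Functor.map_comp, ← Functor.map_comp]
      congr 1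
      exact (whisker_exchange _ _).symm)

theorem isFlat_shf (P : PMod' O) (hP : ∀ X, Module.Flat (O.obj.obj X) (P.obj X)) :
    ModSite.IsFlat ((shf O).obj P) := by
  rw [isFlat_iff]
  have h : (forgetP O ⋙ tensorRight P ⋙ shf O).PreservesMonomorphisms := ⟨fun {M M'} f _ => by
    have hf : Mono ((forgetP O).map f) := by
      have : (forgetP O).IsRightAdjoint := (shfAdj O).isRightAdjoint
      infer_instance
    have : Mono ((forgetP O).map f ▷ P) := preservesMono_tensorRight O.obj P hP _
    have : (shf O).PreservesMonomorphisms :=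
      inferInstanceAs (PresheafOfModules.sheafification.{u} (𝟙 (ModSite.ringSh O).obj)).PreservesMonomorphisms
    exact inferInstanceAs (Mono ((shf O).map ((forgetP O).map f ▷ P)))⟩
  exact Functor.PreservesMonomorphisms.of_iso (unitIso P ≪≫ (tensorBiIso O _).symm)

variable (O) in
/-- the free presheaf of modules on a representable -/
noncomputable abbrev freeP (U : C) : PMod' O :=
  (PresheafOfModules.free (O.obj ⋙ forget₂ CommRingCat.{u} RingCat.{u})).obj (yoneda.obj U)

theorem isFlat_shf_freeP (U : C) : ModSite.IsFlat ((shf O).obj (freeP O U)) :=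
  isFlat_shf _ fun X => inferInstanceAs (Module.Flat (O.obj.obj X) ((unop X ⟶ U) →₀ O.obj.obj X))

variable (O) in
/-- maps out of the sheafified free module on `U` are sections over `U` -/
noncomputable def shfFreeEquiv (U : C) (G : ModSite.Mod O) :
    ((shf O).obj (freeP O U) ⟶ G) ≃ G.val.obj (op U) :=
  ((shfAdj O).homEquiv _ _).trans (PresheafOfModules.freeHomEquiv.trans
    (yonedaEquiv (F := ((forgetP O).obj G).presheaf ⋙ forget _)))

theorem shfFreeEquiv_comp (U : C) {G G' : ModSite.Mod O} (a : (shf O).obj (freeP O U) ⟶ G) (b : G ⟶ G') :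
    shfFreeEquiv O U G' (a ≫ b) = b.val.app (op U) (shfFreeEquiv O U G a) := by
  simp only [shfFreeEquiv, Equiv.trans_apply]
  rw [Adjunction.homEquiv_naturality_right]
  rfl

variable (O) in
/-- maps out of `freeOn O U` are sections over `U` -/
noncomputable def freeOnEquiv (U : C) (G : ModSite.Mod O) :
    (ModSite.freeOn O U ⟶ G) ≃ G.val.obj (op U) :=
  (((ModSite.extZeroAdj O U).homEquiv _ _).trans ((ModSite.restr O U).obj G).unitHomEquiv).trans
    { toFun := fun s => s.1 (op (Over.mk (𝟙 U)))
      invFun := fun x => PresheafOfModules.sectionsMk (fun W => G.val.map W.unop.hom.op x) fun W W' h => by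
        change G.val.map h.unop.left.op (G.val.map W.unop.hom.op x) = G.val.map W'.unop.hom.op x
        rw [← PresheafOfModules.map_comp_apply, ← op_comp, Over.w]
      left_inv := fun s => by
        refine PresheafOfModules.sections_ext _ _ fun W => ?_
        exact s.2 (Over.homMk W.unop.hom (by simp) : W.unop ⟶ Over.mk (𝟙 U)).op
      right_inv := fun x => by
        change G.val.map (𝟙 U).op x = x
        simp }

theorem freeOnEquiv_comp (U : C) {G G' : ModSite.Mod O} (a : ModSite.freeOn O U ⟶ G) (b : G ⟶ G') :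
    freeOnEquiv O U G' (a ≫ b) = b.val.app (op U) (freeOnEquiv O U G a) := by
  simp only [freeOnEquiv, Equiv.trans_apply]
  rw [Adjunction.homEquiv_naturality_right]
  rfl

variable (O) in
/-- the two descriptions of `j_! O_U` -/
noncomputable def freeOnIso (U : C) : (shf O).obj (freeP O U) ≅ ModSite.freeOn O U :=
  ((Coyoneda.fullyFaithful (C := ModSite.Mod O)).preimageIso
    (NatIso.ofComponents (fun G => ((freeOnEquiv O U G).trans (shfFreeEquiv O U G).symm).toIso)
      fun {G G'} b => by
        ext a
        apply (shfFreeEquiv O U G').injective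
        change shfFreeEquiv O U G' ((shfFreeEquiv O U G').symm (freeOnEquiv O U G' (a ≫ b))) =
          shfFreeEquiv O U G' ((shfFreeEquiv O U G).symm (freeOnEquiv O U G a) ≫ b)
        rw [shfFreeEquiv_comp, Equiv.apply_symm_apply, Equiv.apply_symm_apply, freeOnEquiv_comp] :
      coyoneda.obj (op (ModSite.freeOn O U)) ≅ coyoneda.obj (op ((shf O).obj (freeP O U))))).unop

theorem isFlat_freeOn (U : C) : ModSite.IsFlat (ModSite.freeOn O U) :=
  isFlat_of_iso (freeOnIso O U) (isFlat_shf_freeP U)

/-! ### symmetry and colimits -/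

variable (O) in
/-- symmetry of the tensor product -/
noncomputable def tensorSymm : ModSite.tensorBi O ≅ (ModSite.tensorBi O).flip :=
  NatIso.ofComponents (fun M => NatIso.ofComponents
    (fun N => (shf O).mapIso (β_ ((forgetP O).obj M) ((forgetP O).obj N))) fun {N N'} g => by
      dsimp [ModSite.tensorBi]
      rw [← Functor.map_comp, ← Functor.map_comp]
      congr 1
      exact BraidedCategory.braiding_naturality_right _ _) fun {M M'} f => by
    ext N : 2
    dsimp [ModSite.tensorBi]
    rw [← Functor.map_comp, ← Functor.map_comp]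
    congr 1
    exact BraidedCategory.braiding_naturality_left _ _

theorem preservesColimits_tensorLeft (M : ModSite.Mod O) :
    PreservesColimitsOfSize.{u, u} ((ModSite.tensorBi O).obj M) :=
  haveI := preservesColimits_T M
  preservesColimits_of_natIso ((tensorSymm O).app M).symm

theorem isFlat_of_isColimit {K : Type u} [SmallCategory K] [(colim : (K ⥤ ModSite.Mod O) ⥤ _).PreservesMonomorphisms]
    (F : K ⥤ ModSite.Mod O) (hF : ∀ k, ModSite.IsFlat (F.obj k)) (c : Cocone F) (hc : IsColimit c) :
    ModSite.IsFlat c.pt := by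
  rw [isFlat_iff]
  refine ⟨fun {M M'} f _ => ?_⟩
  have := preservesColimits_tensorLeft M
  have := preservesColimits_tensorLeft M'
  let φ : F ⋙ (ModSite.tensorBi O).obj M ⟶ F ⋙ (ModSite.tensorBi O).obj M' :=
    Functor.whiskerLeft F ((ModSite.tensorBi O).map f)
  have : ∀ k, Mono (φ.app k) := fun k => by
    have := (isFlat_iff _).1 (hF k)
    exact (T (F.obj k)).map_mono f
  have : Mono φ := NatTrans.mono_of_mono_app φ
  exact colim.map_mono' φ (isColimitOfPreserves ((ModSite.tensorBi O).obj M) hc)
    (isColimitOfPreserves ((ModSite.tensorBi O).obj M') hc) (((ModSite.tensorBi O).map f).app c.pt)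
    fun k => ((ModSite.tensorBi O).map f).naturality (c.ι.app k)

theorem isFlat_of_cofan {ι : Type u} (F : ι → ModSite.Mod O)
    (hF : ∀ i, ModSite.IsFlat (F i)) (c : Cofan F) (hc : IsColimit c) : ModSite.IsFlat c.pt :=
  isFlat_of_isColimit (Discrete.functor F) (fun i => hF i.as) c hc

theorem isFlat_of_filtered {I : Type u} [SmallCategory I] [IsFiltered I] (D : I ⥤ ModSite.Mod O)
    (hD : ∀ i, ModSite.IsFlat (D.obj i)) (c : Cocone D) (hc : IsColimit c) : ModSite.IsFlat c.pt :=
  isFlat_of_isColimit D hD c hc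

theorem app_eq_of_comp_eq (U : C) {F H : ModSite.Mod O} (x : F.val.obj (op U)) (a b : F ⟶ H)
    (h : (freeOnEquiv O U F).symm x ≫ a = (freeOnEquiv O U F).symm x ≫ b) :
    a.val.app (op U) x = b.val.app (op U) x := by
  have h2 := congrArg (freeOnEquiv O U H) h
  rwa [freeOnEquiv_comp, freeOnEquiv_comp, Equiv.apply_symm_apply] at h2

theorem exists_flat_cover (F : ModSite.Mod O) :
    ∃ (G : ModSite.Mod O) (π : G ⟶ F), ModSite.IsFlat G ∧ Epi π := by
  let I := Σ U : C, F.val.obj (op U)
  let G := ∐ fun i : I => ModSite.freeOn O i.1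
  let π : G ⟶ F := Sigma.desc fun i => (freeOnEquiv O i.1 F).symm i.2
  refine ⟨G, π, isFlat_of_cofan (fun i : I => ModSite.freeOn O i.1) (fun i => isFlat_freeOn i.1)
    (Cofan.mk G (Sigma.ι _)) (coproductIsCoproduct _),
    ⟨fun {H} a b hab => ?_⟩⟩
  apply SheafOfModules.hom_ext
  apply PresheafOfModules.hom_ext
  intro U
  ext x
  let i : I := ⟨U.unop, x⟩
  have h1 : Sigma.ι (fun i : I => ModSite.freeOn O i.1) i ≫ π = (freeOnEquiv O U.unop F).symm x :=
    Sigma.ι_desc _ _
  have h2 : (freeOnEquiv O U.unop F).symm x ≫ a = (freeOnEquiv O U.unop F).symm x ≫ b := by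
    rw [← h1, Category.assoc, Category.assoc, hab]
  exact app_eq_of_comp_eq U.unop x a b h2

/-! ### short exact sequences -/

theorem isFlat_iff_left (N : ModSite.Mod O) :
    ModSite.IsFlat N ↔ ((ModSite.tensorBi O).obj N).PreservesMonomorphisms := by
  rw [isFlat_iff]
  exact ⟨fun h => Functor.PreservesMonomorphisms.of_iso ((tensorSymm O).app N).symm,
    fun h => Functor.PreservesMonomorphisms.of_iso ((tensorSymm O).app N)⟩

/-- right exactness of `M ⊗ -` -/
theorem exact_left (M : ModSite.Mod O) (S : ShortComplex (ModSite.Mod O)) (hS : S.ShortExact) :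
    (ShortComplex.mk (((ModSite.tensorBi O).obj M).map S.f) (((ModSite.tensorBi O).obj M).map S.g)
      (by
        haveI : ((ModSite.tensorBi O).obj M).Additive :=
          haveI := additive_T M
          Functor.additive_of_iso ((tensorSymm O).app M).symm
        rw [← Functor.map_comp, S.zero, Functor.map_zero])).Exact ∧
      Epi (((ModSite.tensorBi O).obj M).map S.g) := by
  have := additive_T M
  have : ((ModSite.tensorBi O).obj M).Additive := Functor.additive_of_iso ((tensorSymm O).app M).symm
  have := preservesColimits_tensorLeft M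
  have : PreservesFiniteColimits ((ModSite.tensorBi O).obj M) := PreservesColimits.preservesFiniteColimits _
  have := hS.epi_g
  exact ⟨hS.exact.map_of_epi_of_preservesCokernel ((ModSite.tensorBi O).obj M) inferInstance inferInstance,
    inferInstance⟩

/-- Tensoring a short exact sequence with flat quotient. -/
theorem mono_map_of_flat_right (S : ShortComplex (ModSite.Mod O)) (hS : S.ShortExact)
    (hF : ModSite.IsFlat S.X₃) (G : ModSite.Mod O) : Mono ((T G).map S.f) := by
  obtain ⟨P, π, hP, _⟩ := exists_flat_cover G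
  let R : ShortComplex (ModSite.Mod O) := ShortComplex.mk (kernel.ι π) π (kernel.condition π)
  have hR : R.ShortExact := { exact := ShortComplex.exact_of_f_is_kernel _ (kernelIsKernel π) }
  let B := ModSite.tensorBi O
  have e₁ := exact_left S.X₁ R hR
  have e₂ := exact_left S.X₂ R hR
  have hm₃ : Mono ((B.obj S.X₃).map R.f) := by
    have := (isFlat_iff_left _).1 hF
    have : Mono R.f := hR.mono_f
    exact (B.obj S.X₃).map_mono _
  have hmP : Mono ((T P).map S.f) := by
    have := (isFlat_iff _).1 hP
    have := hS.mono_f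
    exact (T P).map_mono _
  have := additive_T R.X₁
  have := additive_T R.X₂
  have := preservesFiniteColimits_T R.X₁
  have exK : (S.map (T R.X₁)).Exact :=
    haveI := hS.epi_g
    hS.exact.map_of_epi_of_preservesCokernel (T R.X₁) inferInstance inferInstance
  refine Preadditive.mono_of_cancel_zero _ fun {A} x hx => ?_
  have := e₁.2
  obtain ⟨A₁, π₁, _, p, hp⟩ := surjective_up_to_refinements_of_epi ((B.obj S.X₁).map R.g) x
  have h0 : (p ≫ (T P).map S.f) ≫ (B.obj S.X₂).map R.g = 0 := by
    rw [Category.assoc]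
    have := (B.map S.f).naturality R.g
    change (B.obj S.X₁).map R.g ≫ (T G).map S.f = (T P).map S.f ≫ (B.obj S.X₂).map R.g at this
    rw [← this, ← Category.assoc, ← hp, Category.assoc, hx, comp_zero]
  obtain ⟨A₂, π₂, _, k, hk⟩ := e₂.1.exact_up_to_refinements _ h0
  dsimp at hk
  have hk3 : k ≫ (T R.X₁).map S.g = 0 := by
    rw [← cancel_mono ((B.obj S.X₃).map R.f), zero_comp, Category.assoc]
    have := (B.map S.g).naturality R.f
    change (B.obj S.X₂).map R.f ≫ (T R.X₂).map S.g = (T R.X₁).map S.g ≫ (B.obj S.X₃).map R.f at this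
    rw [← this, ← Category.assoc, ← hk]
    simp only [Category.assoc]
    change π₂ ≫ p ≫ (T R.X₂).map S.f ≫ (T R.X₂).map S.g = 0
    rw [← Functor.map_comp, S.zero, Functor.map_zero, comp_zero, comp_zero]
  obtain ⟨A₃, π₃, _, k₁, hk₁⟩ := exK.exact_up_to_refinements k hk3
  have hpk : π₃ ≫ π₂ ≫ p = k₁ ≫ (B.obj S.X₁).map R.f := by
    rw [← cancel_mono ((T P).map S.f)]
    have := (B.map S.f).naturality R.f
    change (B.obj S.X₁).map R.f ≫ (T R.X₂).map S.f = (T R.X₁).map S.f ≫ (B.obj S.X₂).map R.f at this
    simp only [Category.assoc]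
    refine (congrArg (π₃ ≫ ·) hk).trans ?_
    exact (Category.assoc _ _ _).symm.trans ((congrArg (· ≫ (B.obj S.X₂).map R.f) hk₁).trans
      ((Category.assoc _ _ _).trans (congrArg (k₁ ≫ ·) this.symm)))
  rw [← cancel_epi π₁, ← cancel_epi π₂, ← cancel_epi π₃, hp]
  have : (B.obj S.X₁).Additive :=
    haveI := additive_T S.X₁
    Functor.additive_of_iso ((tensorSymm O).app S.X₁).symm
  rw [reassoc_of% hpk]
  have hz : (B.obj S.X₁).map R.f ≫ (B.obj S.X₁).map R.g = 0 := by
    rw [← Functor.map_comp, R.zero, Functor.map_zero]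
  refine (congrArg (k₁ ≫ ·) hz).trans ?_
  exact Limits.comp_zero

theorem shortExact_map_of_flat_right (S : ShortComplex (ModSite.Mod O)) (hS : S.ShortExact)
    (hF : ModSite.IsFlat S.X₃) (G : ModSite.Mod O) [(T G).PreservesZeroMorphisms] : (S.map (T G)).ShortExact := by
  have := preservesFiniteColimits_T G
  have := hS.epi_g
  exact { exact := hS.exact.map_of_epi_of_preservesCokernel (T G) inferInstance inferInstance
          mono_f := mono_map_of_flat_right S hS hF G
          epi_g := inferInstanceAs (Epi ((T G).map S.g)) }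

theorem isFlat_left_of_shortExact (S : ShortComplex (ModSite.Mod O)) (hS : S.ShortExact)
    (h₂ : ModSite.IsFlat S.X₂) (h₃ : ModSite.IsFlat S.X₃) : ModSite.IsFlat S.X₁ := by
  rw [isFlat_iff_left]
  refine ⟨fun {M M'} f _ => ?_⟩
  have := mono_map_of_flat_right S hS h₃ M
  have := (isFlat_iff_left _).1 h₂
  have h := ((ModSite.tensorBi O).map S.f).naturality f
  have : Mono ((T M).map S.f ≫ ((ModSite.tensorBi O).obj S.X₂).map f) := inferInstance
  change ((ModSite.tensorBi O).obj S.X₁).map f ≫ (T M').map S.f =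
    (T M).map S.f ≫ ((ModSite.tensorBi O).obj S.X₂).map f at h
  rw [← h] at this
  exact mono_of_mono _ ((T M').map S.f)

theorem isFlat_middle_of_shortExact (S : ShortComplex (ModSite.Mod O)) (hS : S.ShortExact)
    (h₁ : ModSite.IsFlat S.X₁) (h₃ : ModSite.IsFlat S.X₃) : ModSite.IsFlat S.X₂ := by
  rw [isFlat_iff_left]
  refine ⟨fun {M M'} f _ => ?_⟩
  let B := ModSite.tensorBi O
  have := additive_T M
  have := additive_T M'
  have hM := shortExact_map_of_flat_right S hS h₃ M
  have hM' := shortExact_map_of_flat_right S hS h₃ M'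
  let φ : S.map (T M) ⟶ S.map (T M') :=
    { τ₁ := (B.obj S.X₁).map f
      τ₂ := (B.obj S.X₂).map f
      τ₃ := (B.obj S.X₃).map f
      comm₁₂ := (B.map S.f).naturality f
      comm₂₃ := (B.map S.g).naturality f }
  have : Mono φ.τ₁ := by
    have := (isFlat_iff_left _).1 h₁
    exact (B.obj S.X₁).map_mono f
  have : Mono φ.τ₃ := by
    have := (isFlat_iff_left _).1 h₃
    exact (B.obj S.X₃).map_mono f
  have := hM.mono_f
  have := hM'.mono_f
  exact ShortComplex.mono_τ₂_of_exact_of_mono φ hM.exact

/-! ### tensor products of flat modules -/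

theorem isFlat_tensor (G F : ModSite.Mod O) (hG : ModSite.IsFlat G) (hF : ModSite.IsFlat F) :
    ModSite.IsFlat (((ModSite.tensorBi O).obj G).obj F) := by
  rw [isFlat_iff] at hG hF ⊢
  let P : PMod' O := (forgetP O).obj G ⊗ (forgetP O).obj F
  let e₁ : T (((ModSite.tensorBi O).obj G).obj F) ≅ forgetP O ⋙ tensorRight P ⋙ shf O :=
    tensorBiIso O _ ≪≫ (unitIso P).symm
  let e₂ : forgetP O ⋙ tensorRight P ⋙ shf O ≅
      forgetP O ⋙ (tensorRight ((forgetP O).obj G) ⋙ tensorRight ((forgetP O).obj F)) ⋙ shf O :=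
    Functor.isoWhiskerLeft (forgetP O) (Functor.isoWhiskerRight
      (tensorRightTensor ((forgetP O).obj G) ((forgetP O).obj F)) (shf O))
  let e₃ : forgetP O ⋙ (tensorRight ((forgetP O).obj G) ⋙ tensorRight ((forgetP O).obj F)) ⋙ shf O ≅
      T G ⋙ T F :=
    (Functor.isoWhiskerLeft (forgetP O ⋙ tensorRight ((forgetP O).obj G)) (shfCompTensorIso O ((forgetP O).obj F)) :)
      ≪≫ Iso.refl _
  exact Functor.PreservesMonomorphisms.of_iso (e₁ ≪≫ e₂ ≪≫ e₃).symm

end GrothLib.ModFlat
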