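import Groth.Agent.Lib.ModFlat.KFlat
import Groth.Agent.Lib.DerCat.HomologyCoproduct
import Mathlib.Algebra.Homology.Refinements
import Mathlib.Algebra.Homology.GrothendieckAbelian
import Mathlib.Algebra.Homology.Single
import Mathlib.CategoryTheory.Abelian.FunctorCategory
import Mathlib.CategoryTheory.Abelian.GrothendieckAxioms.Colim

/-! # K-flat resolutions with flat terms -/

set_option autoImplicit false
set_option maxHeartbeats 800000
universe u

open CategoryTheory CategoryTheory.Limits Opposite HomologicalComplex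
open CochainComplex.HomComplex (Cochain Cocycle δ)

attribute [local instance] Abelian.hasFiniteBiproducts

namespace GrothLib.ModFlat

variable {C : Type u} [SmallCategory C] {J : GrothendieckTopology C} {O : Sheaf J CommRingCat.{u}}

/-- A flat module covering `M`: one generator for each local section. -/
noncomputable def coverObj (M : (ModSite.Mod O)) : (ModSite.Mod O) :=
  ∐ fun s : Σ U : C, M.val.obj (op U) => ModSite.freeOn O s.1

/-- The covering map. -/
noncomputable def coverπ (M : (ModSite.Mod O)) : coverObj M ⟶ M :=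
  Sigma.desc fun s => (freeOnEquiv O s.1 M).symm s.2

instance epi_coverπ (M : (ModSite.Mod O)) : Epi (coverπ M) where
  left_cancellation {Z} a b hab := by
    apply SheafOfModules.hom_ext
    apply PresheafOfModules.hom_ext
    intro U
    ext x
    let i : Σ U : C, M.val.obj (op U) := ⟨U.unop, x⟩
    have h1 : Sigma.ι (fun i : Σ U : C, M.val.obj (op U) => ModSite.freeOn O i.1) i ≫ coverπ M =
        (freeOnEquiv O U.unop M).symm x := Sigma.ι_desc _ _
    exact app_eq_of_comp_eq U.unop x a b (by rw [← h1, Category.assoc, Category.assoc]; exact congrArg (_ ≫ ·) hab)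

theorem flat_coverObj (M : (ModSite.Mod O)) : ModSite.IsFlat (coverObj M) :=
  isFlat_of_cofan (fun i : Σ U : C, M.val.obj (op U) => ModSite.freeOn O i.1) (fun i => isFlat_freeOn i.1)
    (Cofan.mk _ (Sigma.ι _)) (coproductIsCoproduct _)

/-- The complex with prescribed terms and zero differential. -/
noncomputable def zeroCx (F : ℤ → (ModSite.Mod O)) : CochainComplex (ModSite.Mod O) ℤ where
  X := F
  d _ _ := 0
  shape _ _ _ := rfl
  d_comp_d' _ _ _ _ _ := zero_comp

theorem flatTerms_zeroCx {F : ℤ → (ModSite.Mod O)} (h : ∀ n, ModSite.IsFlat (F n)) : FlatTerms (zeroCx F) :=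
  h

/-- The comparison with a coproduct of complexes concentrated in one degree. -/
noncomputable def sigmaToZeroCx (F : ℤ → (ModSite.Mod O)) :
    (∐ fun n => (HomologicalComplex.single (ModSite.Mod O) (ComplexShape.up ℤ) n).obj (F n)) ⟶ zeroCx F :=
  Sigma.desc fun n => HomologicalComplex.mkHomFromSingle (𝟙 (F n)) fun _ _ => comp_zero

instance isIso_sigmaToZeroCx (F : ℤ → (ModSite.Mod O)) : IsIso (sigmaToZeroCx F) := by
  have : ∀ p, IsIso ((sigmaToZeroCx F).f p) := fun p => by
    let K := fun n => (HomologicalComplex.single (ModSite.Mod O) (ComplexShape.up ℤ) n).obj (F n)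
    let c := colimit.isColimit (Discrete.functor K)
    have hf : ∀ n, (Sigma.ι K n).f p ≫ (sigmaToZeroCx F).f p =
        (HomologicalComplex.mkHomFromSingle (𝟙 (F n)) fun _ _ => comp_zero : K n ⟶ zeroCx F).f p := fun n => by
      rw [← HomologicalComplex.comp_f, sigmaToZeroCx, Sigma.ι_desc]
    refine ⟨(HomologicalComplex.singleObjXSelf (ComplexShape.up ℤ) p (F p)).inv ≫ (Sigma.ι K p).f p, ?_, ?_⟩
    · refine (isColimitOfPreserves (HomologicalComplex.eval (ModSite.Mod O) (ComplexShape.up ℤ) p) c).hom_ext
        fun ⟨n⟩ => ?_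
      change (Sigma.ι K n).f p ≫ _ = (Sigma.ι K n).f p ≫ _
      by_cases hn : p = n
      · subst hn
        erw [reassoc_of% (hf p), HomologicalComplex.mkHomFromSingle_f, Category.comp_id, Category.comp_id,
          Iso.hom_inv_id_assoc]
      · exact (HomologicalComplex.isZero_single_obj_X _ n (F n) p hn).eq_of_src _ _
    · erw [Category.assoc, hf, HomologicalComplex.mkHomFromSingle_f, Category.comp_id, Iso.inv_hom_id]
  exact HomologicalComplex.Hom.isIso_of_components _

theorem isKFlat_zeroCx {F : ℤ → (ModSite.Mod O)} (h : ∀ n, ModSite.IsFlat (F n)) : ModSite.IsKFlat (zeroCx F) :=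
  isKFlat_of_iso (asIso (sigmaToZeroCx F)) (isKFlat_sigma _ fun n => isKFlat_single (F n) (h n) n)

/-- The cochain of degree `-1` on a complex with zero differential given by maps `F n ⟶ G (n - 1)`. -/
noncomputable def zeroCxCochain {F : ℤ → (ModSite.Mod O)} {G : CochainComplex (ModSite.Mod O) ℤ}
    (h : ∀ n, F n ⟶ G.X (n - 1)) : Cochain (zeroCx F) G (-1) :=
  Cochain.mk fun p q hpq => h p ≫ (G.XIsoOfEq (show p - 1 = q by omega)).hom

theorem δ_zeroCxCochain {F : ℤ → (ModSite.Mod O)} {G : CochainComplex (ModSite.Mod O) ℤ}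
    (h : ∀ n, F n ⟶ G.X (n - 1)) (p : ℤ) :
    (δ (-1) 0 (zeroCxCochain h)).v p p (add_zero p) = h p ≫ G.d (p - 1) p := by
  rw [CochainComplex.HomComplex.δ_v (-1) 0 (neg_add_cancel 1) _ p p (add_zero p) (p - 1) (p + 1) rfl rfl]
  simp [zeroCxCochain, zeroCx]
  exact (congrArg (h p ≫ G.d (p - 1) p + ·) (smul_zero _)).trans (add_zero _)

/-- The composite `K ⟶ L ⟶ cone` of a map with the inclusion in its cone is null homotopic. -/
noncomputable def compInrHomotopy {K L : CochainComplex (ModSite.Mod O) ℤ} (f : K ⟶ L) :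
    Homotopy (f ≫ CochainComplex.mappingCone.inr f) 0 :=
  (Cochain.equivHomotopy _ _).symm ⟨CochainComplex.mappingCone.inl f, by simp⟩

variable {G : CochainComplex (ModSite.Mod O) ℤ}

/-- A K-flat complex over `G`, epimorphic in every degree and on homology. -/
structure PreRes (G : CochainComplex (ModSite.Mod O) ℤ) where
  /-- the complex -/
  K : CochainComplex (ModSite.Mod O) ℤ
  /-- the map -/
  q : K ⟶ G
  kflat : ModSite.IsKFlat K
  epi_f : ∀ n, Epi (q.f n)
  epi_H : ∀ n, Epi (homologyMap q n)

attribute [instance] PreRes.epi_f PreRes.epi_H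

section Start

variable (G)

/-- Covers of the cycles. -/
noncomputable def cyc : CochainComplex (ModSite.Mod O) ℤ := zeroCx fun n => coverObj (G.cycles n)

/-- The map from the covers of the cycles. -/
noncomputable def cycMap : cyc G ⟶ G where
  f n := coverπ (G.cycles n) ≫ G.iCycles n
  comm' i j _ := ((Category.assoc _ _ _).trans ((congrArg (_ ≫ ·) (G.iCycles_d i j)).trans comp_zero)).trans
    zero_comp.symm

theorem epi_homologyMap_cycMap (n : ℤ) : Epi (homologyMap (cycMap G) n) := by
  let s : coverObj (G.cycles n) ⟶ (cyc G).cycles n :=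
    (cyc G).liftCycles (𝟙 _) (n + 1) (by simp) comp_zero
  have hs : s ≫ cyclesMap (cycMap G) n = coverπ (G.cycles n) := by
    rw [← cancel_mono (G.iCycles n), Category.assoc, cyclesMap_i, liftCycles_i_assoc]
    exact Category.id_comp _
  have : Epi (s ≫ cyclesMap (cycMap G) n) := hs ▸ inferInstance
  have : Epi (cyclesMap (cycMap G) n) := epi_of_epi s _
  have : Epi ((cyc G).homologyπ n ≫ homologyMap (cycMap G) n) := by
    rw [homologyπ_naturality]
    infer_instance
  exact epi_of_epi ((cyc G).homologyπ n) _

/-- Covers of the terms. -/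
noncomputable def terms : CochainComplex (ModSite.Mod O) ℤ := zeroCx fun n => coverObj (G.X (n - 1))

/-- The covering maps, as a cochain of degree `-1`. -/
noncomputable def termsCochain : Cochain (terms G) G (-1) := zeroCxCochain fun n => coverπ (G.X (n - 1))

/-- The coboundary of the covering maps. -/
noncomputable def termsMap : terms G ⟶ G :=
  Cocycle.homOf (Cocycle.mk (δ (-1) 0 (termsCochain G)) 1 rfl (CochainComplex.HomComplex.δ_δ _ _ _ _))

/-- The map from the cone of the identity of the covers of the terms. -/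
noncomputable def diskMap : CochainComplex.mappingCone (𝟙 (terms G)) ⟶ G :=
  CochainComplex.mappingCone.desc _ (termsCochain G) (termsMap G) (by simp [termsMap])

theorem epi_diskMap (n : ℤ) : Epi ((diskMap G).f n) := by
  have h : (CochainComplex.mappingCone.inl (𝟙 (terms G))).v (n + 1) n (by omega) ≫ (diskMap G).f n =
      coverπ (G.X (n + 1 - 1)) ≫ (G.XIsoOfEq (show n + 1 - 1 = n by omega)).hom :=
    CochainComplex.mappingCone.inl_v_desc_f _ _ _ _ _ _ _
  have : Epi ((CochainComplex.mappingCone.inl (𝟙 (terms G))).v (n + 1) n (by omega) ≫ (diskMap G).f n) := by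
    rw [h]; exact epi_comp' (epi_coverπ _) inferInstance
  exact epi_of_epi ((CochainComplex.mappingCone.inl (𝟙 (terms G))).v (n + 1) n _) _

/-- The starting point. -/
noncomputable def startRes : PreRes G where
  K := cyc G ⊞ CochainComplex.mappingCone (𝟙 (terms G))
  q := biprod.desc (cycMap G) (diskMap G)
  kflat := isKFlat_biprod (isKFlat_zeroCx fun _ => flat_coverObj _)
    (isKFlat_mappingCone _ (isKFlat_zeroCx fun _ => flat_coverObj _) (isKFlat_zeroCx fun _ => flat_coverObj _))
  epi_f n := by
    have := epi_diskMap G n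
    have : Epi ((biprod.inr : CochainComplex.mappingCone (𝟙 (terms G)) ⟶
        cyc G ⊞ CochainComplex.mappingCone (𝟙 (terms G))).f n ≫ (biprod.desc (cycMap G) (diskMap G)).f n) := by
      rw [← HomologicalComplex.comp_f, biprod.inr_desc]; infer_instance
    exact epi_of_epi ((biprod.inr : CochainComplex.mappingCone (𝟙 (terms G)) ⟶
        cyc G ⊞ CochainComplex.mappingCone (𝟙 (terms G))).f n) _
  epi_H n := by
    have := epi_homologyMap_cycMap G n
    have : Epi (homologyMap (biprod.inl : cyc G ⟶ cyc G ⊞ CochainComplex.mappingCone (𝟙 (terms G))) n ≫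
        homologyMap (biprod.desc (cycMap G) (diskMap G)) n) := by
      rw [← homologyMap_comp, biprod.inl_desc]; infer_instance
    exact epi_of_epi (homologyMap (biprod.inl : cyc G ⟶ cyc G ⊞ CochainComplex.mappingCone (𝟙 (terms G))) n) _

theorem flatTerms_startRes : FlatTerms (startRes G).K :=
  flatTerms_biprod (flatTerms_zeroCx fun _ => flat_coverObj _)
    (flatTerms_mappingCone _ (flatTerms_zeroCx fun _ => flat_coverObj _) (flatTerms_zeroCx fun _ => flat_coverObj _))

variable {G} in
/-- The starting point below a given K-flat complex over `G`. -/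
noncomputable def startResOver {P : CochainComplex (ModSite.Mod O) ℤ} (a : P ⟶ G) (hP : ModSite.IsKFlat P) : PreRes G where
  K := P ⊞ (startRes G).K
  q := biprod.desc a (startRes G).q
  kflat := isKFlat_biprod hP (startRes G).kflat
  epi_f n := by
    have : Epi ((biprod.inr : (startRes G).K ⟶ P ⊞ (startRes G).K).f n ≫
        (biprod.desc a (startRes G).q).f n) := by
      rw [← HomologicalComplex.comp_f, biprod.inr_desc]; infer_instance
    exact epi_of_epi ((biprod.inr : (startRes G).K ⟶ P ⊞ (startRes G).K).f n) _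
  epi_H n := by
    have : Epi (homologyMap (biprod.inr : (startRes G).K ⟶ P ⊞ (startRes G).K) n ≫
        homologyMap (biprod.desc a (startRes G).q) n) := by
      rw [← homologyMap_comp, biprod.inr_desc]; infer_instance
    exact epi_of_epi (homologyMap (biprod.inr : (startRes G).K ⟶ P ⊞ (startRes G).K) n) _

end Start

section Step

variable (R : PreRes G)

/-- Pairs of a cycle and a primitive of its image. -/
noncomputable abbrev stepP (n : ℤ) : (ModSite.Mod O) :=
  pullback (R.K.iCycles n ≫ R.q.f n) (G.d (n - 1) n)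

/-- The covers of the classes to kill. -/
noncomputable def stepS : CochainComplex (ModSite.Mod O) ℤ := zeroCx fun n => coverObj (stepP R n)

/-- The classes to kill. -/
noncomputable def stepF : stepS R ⟶ R.K where
  f n := coverπ (stepP R n) ≫ pullback.fst _ _ ≫ R.K.iCycles n
  comm' i j _ := by
    rw [Category.assoc, Category.assoc, R.K.iCycles_d, comp_zero, comp_zero]
    exact zero_comp.symm

/-- The primitives of their images. -/
noncomputable def stepα : Cochain (stepS R) G (-1) :=
  zeroCxCochain fun n => coverπ (stepP R n) ≫ pullback.snd _ _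

theorem δ_stepα : δ (-1) 0 (stepα R) = Cochain.ofHom (stepF R ≫ R.q) :=
  CochainComplex.HomComplex.Cochain.ext₀ _ _ fun p => by
    refine (δ_zeroCxCochain _ p).trans ?_
    rw [Cochain.ofHom_v]
    change _ = (coverπ (stepP R p) ≫ pullback.fst _ _ ≫ R.K.iCycles p) ≫ R.q.f p
    rw [Category.assoc, Category.assoc, Category.assoc, pullback.condition]

/-- The next complex. -/
noncomputable def nextRes : PreRes G where
  K := CochainComplex.mappingCone (stepF R)
  q := CochainComplex.mappingCone.desc _ (stepα R) R.q (δ_stepα R)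
  kflat := isKFlat_mappingCone _ (isKFlat_zeroCx fun _ => flat_coverObj _) R.kflat
  epi_f n := by
    have : Epi ((CochainComplex.mappingCone.inr (stepF R)).f n ≫
        (CochainComplex.mappingCone.desc _ (stepα R) R.q (δ_stepα R)).f n) := by
      rw [CochainComplex.mappingCone.inr_f_desc_f]; infer_instance
    exact epi_of_epi ((CochainComplex.mappingCone.inr (stepF R)).f n) _
  epi_H n := by
    have : Epi (homologyMap (CochainComplex.mappingCone.inr (stepF R)) n ≫
        homologyMap (CochainComplex.mappingCone.desc _ (stepα R) R.q (δ_stepα R)) n) := by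
      rw [← homologyMap_comp, CochainComplex.mappingCone.inr_desc]; infer_instance
    exact epi_of_epi (homologyMap (CochainComplex.mappingCone.inr (stepF R)) n) _

/-- The inclusion. -/
noncomputable def stepIncl : R.K ⟶ (nextRes R).K := CochainComplex.mappingCone.inr (stepF R)

theorem stepIncl_q : stepIncl R ≫ (nextRes R).q = R.q := CochainComplex.mappingCone.inr_desc (stepF R) (stepα R) R.q (δ_stepα R)

/-- Every class killed by `q` dies in the next complex. -/
theorem stepIncl_kills (n : ℤ) {A : (ModSite.Mod O)} (γ : A ⟶ R.K.homology n) (hγ : γ ≫ homologyMap R.q n = 0) :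
    γ ≫ homologyMap (stepIncl R) n = 0 := by
  obtain ⟨A₁, π₁, hπ₁, z, hz, hzγ⟩ := R.K.eq_liftCycles_homologyπ_up_to_refinements γ (n + 1) (by simp)
  have hqz : (z ≫ R.q.f n) ≫ G.d n (n + 1) = 0 := by
    rw [Category.assoc, R.q.comm, ← Category.assoc, hz, zero_comp]
  have h0 : G.liftCycles (z ≫ R.q.f n) (n + 1) (by simp) hqz ≫ G.homologyπ n = 0 := by
    have e : G.liftCycles (z ≫ R.q.f n) (n + 1) (by simp) hqz =
        R.K.liftCycles z (n + 1) (by simp) hz ≫ cyclesMap R.q n := by
      rw [← cancel_mono (G.iCycles n), Category.assoc, cyclesMap_i, liftCycles_i, liftCycles_i_assoc]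
    rw [e, Category.assoc, ← homologyπ_naturality, ← Category.assoc, ← hzγ, Category.assoc, hγ, comp_zero]
  obtain ⟨A₂, π₂, hπ₂, g, hg⟩ :=
    (G.liftCycles_comp_homologyπ_eq_zero_iff_up_to_refinements (n - 1) n (n + 1) (by simp) (by simp) _ hqz).1 h0
  let l : A₂ ⟶ stepP R n := pullback.lift (π₂ ≫ R.K.liftCycles z (n + 1) (by simp) hz) g (by
    rw [Category.assoc, liftCycles_i_assoc, ← hg])
  obtain ⟨A₃, π₃, hπ₃, w, hw⟩ := (epi_iff_surjective_up_to_refinements (coverπ (stepP R n))).1 inferInstance l
  let w' : A₃ ⟶ (stepS R).cycles n := (stepS R).liftCycles w (n + 1) (by simp) comp_zero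
  have hw' : w' ≫ cyclesMap (stepF R) n = π₃ ≫ π₂ ≫ R.K.liftCycles z (n + 1) (by simp) hz := by
    rw [← cancel_mono (R.K.iCycles n), Category.assoc, cyclesMap_i, liftCycles_i_assoc]
    change w ≫ coverπ (stepP R n) ≫ pullback.fst _ _ ≫ R.K.iCycles n = _
    rw [← Category.assoc, ← hw, Category.assoc, pullback.lift_fst_assoc]
    simp only [Category.assoc]
  have hhom : homologyMap (stepF R) n ≫ homologyMap (stepIncl R) n = 0 :=
    ((homologyMap_comp _ _ n).symm.trans ((compInrHomotopy (stepF R)).homologyMap_eq n)).trans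
      (homologyMap_zero _ _ n)
  rw [← cancel_epi (π₃ ≫ π₂ ≫ π₁), comp_zero]
  calc (π₃ ≫ π₂ ≫ π₁) ≫ γ ≫ homologyMap (stepIncl R) n
      = ((π₃ ≫ π₂) ≫ (π₁ ≫ γ)) ≫ homologyMap (stepIncl R) n := by simp only [Category.assoc]
    _ = (w' ≫ cyclesMap (stepF R) n) ≫ R.K.homologyπ n ≫ homologyMap (stepIncl R) n := by
        rw [hzγ, hw']; simp only [Category.assoc]
    _ = (w' ≫ (stepS R).homologyπ n) ≫ homologyMap (stepF R) n ≫ homologyMap (stepIncl R) n := by
        simp only [Category.assoc, homologyπ_naturality_assoc]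
    _ = 0 := by rw [hhom, comp_zero]

end Step

section Colim

variable (R₀ : PreRes G)

/-- The sequence of approximations. -/
noncomputable def resSeq : ℕ → PreRes G
  | 0 => R₀
  | k + 1 => nextRes (resSeq k)

/-- The sequence as a functor. -/
noncomputable def resFun : ℕ ⥤ CochainComplex (ModSite.Mod O) ℤ :=
  Functor.ofSequence (X := fun k => (resSeq R₀ k).K) fun k => stepIncl (resSeq R₀ k)

theorem resFun_succ (k : ℕ) : (resFun R₀).map (homOfLE (Nat.le_succ k)) = stepIncl (resSeq R₀ k) :=
  Functor.ofSequence_map_homOfLE_succ _ k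

/-- The maps to `G`. -/
noncomputable def resQ : resFun R₀ ⟶ (Functor.const ℕ).obj G :=
  NatTrans.ofSequence (fun k => (resSeq R₀ k).q) fun k => by
    rw [resFun_succ]
    exact (stepIncl_q (resSeq R₀ k)).trans (Category.comp_id _).symm

instance epi_resQ_app (k : ℕ) : Epi ((resQ R₀).app k) :=
  have : ∀ n, Epi (((resQ R₀).app k).f n) := (resSeq R₀ k).epi_f
  HomologicalComplex.epi_of_epi_f _ this

/-- The resolution. -/
noncomputable def resObj : CochainComplex (ModSite.Mod O) ℤ := colimit (resFun R₀)

/-- The resolution map. -/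
noncomputable def resMap : resObj R₀ ⟶ G := colimit.desc _ ⟨G, resQ R₀⟩

theorem isKFlat_resObj : ModSite.IsKFlat (resObj R₀) := isKFlat_colimit _ fun k => (resSeq R₀ k).kflat

theorem flatTerms_resSeq (h : FlatTerms R₀.K) : ∀ k, FlatTerms (resSeq R₀ k).K
  | 0 => h
  | k + 1 => flatTerms_mappingCone _ (flatTerms_zeroCx fun _ => flat_coverObj _) (flatTerms_resSeq h k)

theorem flatTerms_resObj (h : FlatTerms R₀.K) : FlatTerms (resObj R₀) :=
  flatTerms_colimit _ fun k => flatTerms_resSeq R₀ h k

theorem epi_resMap_f (n : ℤ) : Epi ((resMap R₀).f n) := by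
  have : Epi ((colimit.ι (resFun R₀) 0).f n ≫ (resMap R₀).f n) := by
    rw [← HomologicalComplex.comp_f, resMap, colimit.ι_desc]
    exact (resSeq R₀ 0).epi_f n
  exact epi_of_epi ((colimit.ι (resFun R₀) 0).f n) _

/-- The kernel short exact sequence in the category of sequences. -/
noncomputable def resShort : ShortComplex (ℕ ⥤ CochainComplex (ModSite.Mod O) ℤ) :=
  ShortComplex.mk (kernel.ι (resQ R₀)) (resQ R₀) (kernel.condition _)

theorem resShort_shortExact : (resShort R₀).ShortExact :=
  have : CategoryWithHomology (ℕ ⥤ CochainComplex (ModSite.Mod O) ℤ) := by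
    convert! (categoryWithHomology_of_abelian (C := ℕ ⥤ CochainComplex (ModSite.Mod O) ℤ)) using 2
  { exact := ShortComplex.exact_of_f_is_kernel _ (kernelIsKernel _)
    mono_f := inferInstanceAs (Mono (kernel.ι (resQ R₀)))
    epi_g := NatTrans.epi_of_epi_app (resQ R₀) }

theorem acyclic_kernel : (colimit (resShort R₀).X₁).Acyclic := by
  refine DerCat.acyclic_colimit_of_homologyMap_eq_zero _ fun k i => ?_
  let hk : ∀ j, ((resShort R₀).map ((evaluation _ _).obj j)).ShortExact :=
    fun j => (resShort_shortExact R₀).map_of_exact _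
  have hmono : Mono (homologyMap ((kernel.ι (resQ R₀)).app (k + 1)) i) := by
    have he : Epi (homologyMap ((resQ R₀).app (k + 1)) (i - 1)) := (resSeq R₀ (k + 1)).epi_H (i - 1)
    have h1 := (hk (k + 1)).comp_δ (i - 1) i (show i - 1 + 1 = i by omega)
    exact ((hk (k + 1)).homology_exact₁ (i - 1) i (show i - 1 + 1 = i by omega)).mono_g
      ((cancel_epi (homologyMap ((resQ R₀).app (k + 1)) (i - 1))).1 (h1.trans comp_zero.symm))
  change homologyMap ((kernel (resQ R₀)).map (homOfLE (Nat.le_succ k))) i = 0
  refine (cancel_mono (homologyMap ((kernel.ι (resQ R₀)).app (k + 1)) i)).1 (Eq.trans ?_ zero_comp.symm)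
  refine ((homologyMap_comp _ _ i).symm.trans
    ((congrArg (homologyMap · i) ((kernel.ι (resQ R₀)).naturality (homOfLE (Nat.le_succ k)))).trans
      (homologyMap_comp _ _ i))).trans ?_
  rw [resFun_succ]
  refine stepIncl_kills _ i _ ?_
  refine (homologyMap_comp _ _ i).symm.trans ?_
  exact (congrArg (homologyMap · i) (NatTrans.congr_app (kernel.condition (resQ R₀)) k)).trans
    (homologyMap_zero _ _ i)

theorem quasiIso_resMap : QuasiIso (resMap R₀) := by
  have hc : IsColimit (constCocone ℕ G) := isColimitConstCocone ℕ G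
  let a : colimit (resShort R₀).X₁ ⟶ resObj R₀ := colimMap (kernel.ι (resQ R₀))
  let T := colim.mapShortComplex (resShort R₀) (colimit.isColimit _) (colimit.cocone _) (constCocone ℕ G)
    a (resMap R₀) (fun j => ι_colimMap _ j)
    (fun j => (colimit.ι_desc _ j).trans (Category.comp_id _).symm)
  have hT : T.ShortExact :=
    { exact := colim.exact_mapShortComplex (resShort_shortExact R₀).exact _ (colimit.isColimit _) hc _ _ _ _
      mono_f := by
        have := (resShort_shortExact R₀).mono_f
        exact colim.map_mono' (resShort R₀).f (colimit.isColimit _) (colimit.isColimit _) a fun j => ι_colimMap _ j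
      epi_g := by
        exact HomologicalComplex.epi_of_epi_f (resMap R₀) (epi_resMap_f R₀) }
  have h0 := (DerCat.acyclic_iff _).1 (acyclic_kernel R₀)
  refine (quasiIso_iff _).2 fun i => (quasiIsoAt_iff_isIso_homologyMap _ i).2 ?_
  have : Mono (homologyMap (resMap R₀) i) := (hT.homology_exact₂ i).mono_g ((h0 i).eq_of_src _ _)
  have : Epi (homologyMap (resMap R₀) i) :=
    (hT.homology_exact₃ i (i + 1) rfl).epi_f ((h0 (i + 1)).eq_of_tgt _ _)
  exact isIso_of_mono_of_epi _

variable (G) in
/-- Every complex has a degreewise epimorphic K-flat resolution with flat terms. -/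
theorem exists_kflat_resolution :
    ∃ (K : CochainComplex (ModSite.Mod O) ℤ) (q : K ⟶ G), ModSite.IsKFlat K ∧ FlatTerms K ∧
      QuasiIso q ∧ ∀ n, Epi (q.f n) :=
  ⟨resObj (startRes G), resMap (startRes G), isKFlat_resObj _, flatTerms_resObj _ (flatTerms_startRes G),
    quasiIso_resMap _, epi_resMap_f _⟩

/-- Every map out of a K-flat complex factors through a K-flat resolution of the target. -/
theorem exists_factorization {P : CochainComplex (ModSite.Mod O) ℤ} (a : P ⟶ G) (hP : ModSite.IsKFlat P) :
    ∃ (N : CochainComplex (ModSite.Mod O) ℤ) (b : P ⟶ N) (c : N ⟶ G), ModSite.IsKFlat N ∧ QuasiIso c ∧ b ≫ c = a ∧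
      (FlatTerms P → FlatTerms N) :=
  ⟨resObj (startResOver a hP), (biprod.inl : P ⟶ P ⊞ (startRes G).K) ≫ colimit.ι (resFun (startResOver a hP)) 0,
    resMap (startResOver a hP), isKFlat_resObj _, quasiIso_resMap _, by
      rw [Category.assoc, resMap]
      erw [colimit.ι_desc]
      exact biprod.inl_desc _ _,
    fun h => flatTerms_resObj _ (flatTerms_biprod h (flatTerms_startRes G))⟩

end Colim

end GrothLib.ModFlat
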