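import Groth.Agent.Lib.ModFlat.KFlat
import Groth.Agent.Lib.OX.KFlatBounded
import Mathlib.Algebra.Homology.Embedding.CochainComplex

/-! # Bounded above complexes of flat modules are K-flat -/

set_option autoImplicit false
set_option maxHeartbeats 800000
universe v u

open CategoryTheory CategoryTheory.Limits HomologicalComplex



namespace GrothLib.ModFlat

open GrothLib.Trunc

variable {C : Type u} [SmallCategory C] {J : GrothendieckTopology C} {O : Sheaf J CommRingCat.{u}} (K : CochainComplex (ModSite.Mod O) ℤ)

theorem geShortExact (a : ℤ) :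
    (ShortComplex.mk _ _ (geMap_geTop K a (by omega))).ShortExact := by
  refine HomologicalComplex.shortExact_of_degreewise_shortExact _ fun n => ?_
  let T := (ShortComplex.mk _ _ (geMap_geTop K a (by omega))).map
    (HomologicalComplex.eval (ModSite.Mod O) (ComplexShape.up ℤ) n)
  change T.ShortExact
  have hfac : T.f ≫ (geι K a).f n = (geι K (a + 1)).f n :=
    congrArg (fun φ => HomologicalComplex.Hom.f φ n) (geMap_ι K (a + 1) (show a ≤ a + 1 by omega))
  by_cases hn : n = a
  · subst hn
    have hz : IsZero T.X₁ := isZero_geObj_X K _ (by omega)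
    have hg : IsIso T.g := by
      change IsIso ((geTop K n).f n)
      rw [geTop, HomologicalComplex.mkHomToSingle_f]
      have := isIso_geι_f K n le_rfl
      infer_instance
    exact { exact := (T.exact_iff_mono (hz.eq_of_src _ _)).2 inferInstance
            mono_f := hz.mono _
            epi_g := inferInstance }
  · have hz : IsZero T.X₃ := HomologicalComplex.isZero_single_obj_X (ComplexShape.up ℤ) a _ n hn
    have hf : IsIso T.f := by
      by_cases hna : a ≤ n
      · exact @IsIso.of_isIso_comp_right _ _ _ _ _ T.f ((geι K a).f n) (isIso_geι_f K a hna)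
          (by rw [hfac]; exact isIso_geι_f K (a + 1) (show a + 1 ≤ n by omega))
      · exact (isZero_geObj_X K (a + 1) (show ¬ a + 1 ≤ n by omega)).isIso (isZero_geObj_X K a hna) _
    exact { exact := (T.exact_iff_epi (hz.eq_of_tgt _ _)).2 inferInstance
            mono_f := inferInstance
            epi_g := hz.epi _ }

/-- A bounded above complex of flat modules is K-flat. -/
theorem isKFlat_of_bounded_above (b : ℤ) (hb : ∀ n, b < n → IsZero (K.X n)) (hflat : FlatTerms K) :
    ModSite.IsKFlat K := by
  have hzero : ModSite.IsKFlat (geObj K (b + 1)) := by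
    refine isKFlat_of_isZero ((IsZero.iff_id_eq_zero _).2 (HomologicalComplex.hom_ext _ _ fun n => ?_))
    by_cases h : b + 1 ≤ n
    · have := isIso_geι_f K (b + 1) h
      exact ((hb n (by omega)).of_iso (asIso ((geι K (b + 1)).f n))).eq_of_src _ _
    · exact (isZero_geObj_X K _ h).eq_of_src _ _
  have hk : ∀ k : ℕ, ModSite.IsKFlat (geObj K (b + 1 - k)) := by
    intro k
    induction k with
    | zero => simpa using hzero
    | succ k ih =>
      have := isKFlat_X₂ (S := ShortComplex.mk _ _ (geMap_geTop K (b + 1 - (k + 1 : ℕ)) (by omega)))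
        (tensorCx_shortExact_of_flat (geShortExact K _) (flatTerms_single _ (hflat _) _))
        (show ModSite.IsKFlat (geObj K (b + 1 - (k + 1 : ℕ) + 1)) by
          rwa [show b + 1 - ((k + 1 : ℕ) : ℤ) + 1 = b + 1 - (k : ℤ) by push_cast; omega])
        (isKFlat_single _ (hflat _) _)
      exact this
  exact isKFlat_of_iso ((colimit.isColimit _).coconePointUniqueUpToIso (isColimitGeCocone K (b + 1)))
    (isKFlat_colimit (geFun K (b + 1)) hk)

end GrothLib.ModFlat
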