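import Groth.Agent.Lib.ModFlat.TensorSymm
import Groth.Agent.Lib.ModFlat.KFlatBounded

/-! # Cycles of acyclic K-flat complexes with flat terms -/

set_option autoImplicit false
universe u

open CategoryTheory CategoryTheory.Limits HomologicalComplex

namespace GrothLib.ModFlat

variable {C : Type u} [SmallCategory C] {J : GrothendieckTopology C} {O : Sheaf J CommRingCat.{u}}

attribute [local instance] Abelian.hasFiniteBiproducts

theorem acyclic_map_T {K : CochainComplex (ModSite.Mod O) ℤ} (hac : K.Acyclic) (hK : ModSite.IsKFlat K)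
    (M : ModSite.Mod O) : (((T M).mapHomologicalComplex (ComplexShape.up ℤ)).obj K).Acyclic :=
  DerCat.acyclic_of_iso (singleIso K M).symm
    (DerCat.acyclic_of_iso (tensorCxSymm _ K).symm
      (acyclic_tensor_of_acyclic_isKFlat hac hK _))

theorem mono_map_iCycles {K : CochainComplex (ModSite.Mod O) ℤ} (hac : K.Acyclic) (hK : ModSite.IsKFlat K)
    (M : ModSite.Mod O) (n : ℤ) : Mono ((T M).map (K.iCycles n)) := by
  have := additive_T M
  have := preservesFiniteColimits_T M
  let G := T M
  let S : ShortComplex (ModSite.Mod O) := ShortComplex.mk (K.d (n - 1 - 1) (n - 1)) (K.toCycles (n - 1) n)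
    (by rw [← cancel_mono (K.iCycles n), Category.assoc, K.toCycles_i, K.d_comp_d, zero_comp])
  have hex : S.Exact := by
    have h := (K.exactAt_iff' (n - 1 - 1) (n - 1) n (by simp) (by simp)).1 (hac (n - 1))
    rw [ShortComplex.exact_iff_exact_up_to_refinements] at h ⊢
    intro A x hx
    refine h x ?_
    change x ≫ K.d (n - 1) n = 0
    rw [← K.toCycles_i, ← Category.assoc]
    exact (congrArg (· ≫ K.iCycles n) hx).trans zero_comp
  have hepi : Epi (K.toCycles (n - 1) n) := by
    rw [epi_iff_surjective_up_to_refinements]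
    intro A a
    have h := (K.exactAt_iff' (n - 1) n (n + 1) (by simp) (by simp)).1 (hac n)
    obtain ⟨A', π, hπ, y, hy⟩ := h.exact_up_to_refinements (a ≫ K.iCycles n) (by
      change (a ≫ K.iCycles n) ≫ K.d n (n + 1) = 0
      rw [Category.assoc, K.iCycles_d, comp_zero])
    refine ⟨A', π, hπ, y, (cancel_mono (K.iCycles n)).1 ?_⟩
    rw [Category.assoc, Category.assoc, K.toCycles_i]
    exact hy
  refine Preadditive.mono_of_cancel_zero _ fun {A} x hx => ?_
  have : Epi (G.map (K.toCycles (n - 1) n)) := inferInstance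
  obtain ⟨A₁, π, _, y, hy⟩ := surjective_up_to_refinements_of_epi (G.map (K.toCycles (n - 1) n)) x
  have h0 : y ≫ G.map (K.d (n - 1) n) = 0 := by
    rw [← K.toCycles_i, G.map_comp, ← Category.assoc, ← hy, Category.assoc, hx, comp_zero]
  have hG := ((((T M).mapHomologicalComplex (ComplexShape.up ℤ)).obj K).exactAt_iff' (n - 1 - 1) (n - 1) n
    (by simp) (by simp)).1 (acyclic_map_T hac hK M (n - 1))
  obtain ⟨A₂, π₂, _, z, hz⟩ := hG.exact_up_to_refinements y h0
  rw [← cancel_epi π, ← cancel_epi π₂, hy, comp_zero, comp_zero, ← Category.assoc]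
  refine (congrArg (· ≫ G.map (K.toCycles (n - 1) n)) hz).trans ((Category.assoc _ _ _).trans ?_)
  exact (congrArg (z ≫ ·) ((G.map_comp _ _).symm.trans ((congrArg G.map S.zero).trans (G.map_zero _ _)))).trans
    comp_zero

theorem isFlat_cycles {K : CochainComplex (ModSite.Mod O) ℤ} (hac : K.Acyclic) (hK : ModSite.IsKFlat K)
    (hfl : ∀ i, ModSite.IsFlat (K.X i)) (n : ℤ) : ModSite.IsFlat (K.cycles n) := by
  rw [isFlat_iff_left]
  refine ⟨fun {M M'} f _ => ?_⟩
  have := mono_map_iCycles hac hK M n
  have := (isFlat_iff_left _).1 (hfl n)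
  have h := ((ModSite.tensorBi O).map (K.iCycles n)).naturality f
  change ((ModSite.tensorBi O).obj _).map f ≫ (T M').map _ = (T M).map _ ≫ _ at h
  have h2 : Mono ((T M).map (K.iCycles n) ≫ ((ModSite.tensorBi O).obj (K.X n)).map f) := inferInstance
  rw [← h] at h2
  exact mono_of_mono _ ((T M').map (K.iCycles n))

end GrothLib.ModFlat
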