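import Mathlib.CategoryTheory.Monoidal.Braided.Basic
import Mathlib.Algebra.Homology.ShortComplex.ExactFunctor
import Mathlib.CategoryTheory.Abelian.Refinements
import Mathlib.CategoryTheory.Preadditive.AdditiveFunctor

/-! # Tensoring a short exact sequence with flat quotient, in a monoidal abelian category -/

set_option autoImplicit false

open CategoryTheory Limits MonoidalCategory

namespace GrothLib.FlatChase

variable {A : Type*} [Category A] [Abelian A] [MonoidalCategory A]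
  [∀ X : A, (tensorLeft X).Additive] [∀ X : A, (tensorRight X).Additive]
  [∀ X : A, PreservesFiniteColimits (tensorLeft X)] [∀ X : A, PreservesFiniteColimits (tensorRight X)]

theorem mono_whiskerRight (S : ShortComplex A) (hS : S.ShortExact) (R : ShortComplex A) (hR : R.ShortExact)
    (h₃ : Mono (S.X₃ ◁ R.f)) (hP : Mono (S.f ▷ R.X₂)) : Mono (S.f ▷ R.X₃) := by
  have := hS.epi_g
  have := hR.epi_g
  have ex₂ : (R.map (tensorLeft S.X₂)).Exact :=
    hR.exact.map_of_epi_of_preservesCokernel (tensorLeft S.X₂) inferInstance inferInstance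
  have exK : (S.map (tensorRight R.X₁)).Exact :=
    hS.exact.map_of_epi_of_preservesCokernel (tensorRight R.X₁) inferInstance inferInstance
  have : Epi (S.X₁ ◁ R.g) := inferInstanceAs (Epi ((tensorLeft S.X₁).map R.g))
  refine Preadditive.mono_of_cancel_zero _ fun {Z} x hx => ?_
  obtain ⟨A₁, π₁, _, p, hp⟩ := surjective_up_to_refinements_of_epi (S.X₁ ◁ R.g) x
  have h0 : (p ≫ S.f ▷ R.X₂) ≫ S.X₂ ◁ R.g = 0 := by
    rw [Category.assoc, ← whisker_exchange, ← Category.assoc, ← hp, Category.assoc, hx, comp_zero]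
  obtain ⟨A₂, π₂, _, k, hk⟩ := ex₂.exact_up_to_refinements _ h0
  change π₂ ≫ p ≫ S.f ▷ R.X₂ = k ≫ S.X₂ ◁ R.f at hk
  have hk3 : k ≫ S.g ▷ R.X₁ = 0 := by
    rw [← cancel_mono (S.X₃ ◁ R.f), zero_comp, Category.assoc]
    erw [show S.g ▷ R.X₁ ≫ S.X₃ ◁ R.f = S.X₂ ◁ R.f ≫ S.g ▷ R.X₂ from (whisker_exchange S.g R.f).symm]
    erw [← Category.assoc, ← hk]
    simp only [Category.assoc]
    rw [← comp_whiskerRight, S.zero]
    change π₂ ≫ p ≫ (tensorRight R.X₂).map 0 = 0
    rw [Functor.map_zero, comp_zero, comp_zero]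
  obtain ⟨A₃, π₃, _, k₁, hk₁⟩ := exK.exact_up_to_refinements k hk3
  change π₃ ≫ k = k₁ ≫ S.f ▷ R.X₁ at hk₁
  have hpk : π₃ ≫ π₂ ≫ p = k₁ ≫ S.X₁ ◁ R.f := by
    rw [← cancel_mono (S.f ▷ R.X₂)]
    simp only [Category.assoc]
    erw [hk, reassoc_of% hk₁]
    exact (Category.assoc _ _ _).trans (congrArg (k₁ ≫ ·) (whisker_exchange S.f R.f).symm)
  rw [← cancel_epi π₁, ← cancel_epi π₂, ← cancel_epi π₃, hp, reassoc_of% hpk]
  simp only [comp_zero]
  have hz : S.X₁ ◁ R.f ≫ S.X₁ ◁ R.g = 0 := by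
    rw [← MonoidalCategory.whiskerLeft_comp, R.zero]
    exact (tensorLeft S.X₁).map_zero _ _
  exact (congrArg (k₁ ≫ ·) hz).trans comp_zero

end GrothLib.FlatChase
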