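import Groth.Agent.Lib.ModFlat.TensorSymm
import Mathlib.Algebra.Homology.BifunctorAssociator
import Mathlib.CategoryTheory.Functor.Trifunctor

/-! # Associativity of the tensor product of O_X-modules and of complexes -/

set_option autoImplicit false
set_option maxHeartbeats 400000
universe u

open CategoryTheory CategoryTheory.Limits MonoidalCategory GrothLib.SheafCoh HomologicalComplex

namespace GrothLib.ModFlat

variable {C : Type u} [SmallCategory C] {J : GrothendieckTopology C} {O : Sheaf J CommRingCat.{u}}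

attribute [local instance] Abelian.hasFiniteBiproducts

/-- The comparison from the sheafified triple tensor product of presheaves, bracketed to the left. -/
noncomputable def tensor12Iso (M N P : (ModSite.Mod O)) :
    (shf O).obj (((forgetP O).obj M ⊗ (forgetP O).obj N) ⊗ (forgetP O).obj P) ≅
      ((ModSite.tensorBi O).obj (((ModSite.tensorBi O).obj M).obj N)).obj P :=
  @asIso _ _ _ _ ((shf O).map ((shfAdj O).unit.app ((forgetP O).obj M ⊗ (forgetP O).obj N) ▷ (forgetP O).obj P))
    (isIso_shf_map_unit_whiskerRight O ((forgetP O).obj M ⊗ (forgetP O).obj N) ((forgetP O).obj P))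

/-- The comparison from the sheafified triple tensor product of presheaves, bracketed to the right. -/
noncomputable def tensor23Iso (M N P : (ModSite.Mod O)) :
    (shf O).obj ((forgetP O).obj M ⊗ ((forgetP O).obj N ⊗ (forgetP O).obj P)) ≅
      ((ModSite.tensorBi O).obj M).obj (((ModSite.tensorBi O).obj N).obj P) :=
  @asIso _ _ _ _ ((shf O).map ((forgetP O).obj M ◁ (shfAdj O).unit.app ((forgetP O).obj N ⊗ (forgetP O).obj P)))
    (isIso_shf_map_whiskerLeft_unit O ((forgetP O).obj M) ((forgetP O).obj N ⊗ (forgetP O).obj P))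

/-- The associator of the tensor product of O_X-modules. -/
noncomputable def tensorAssoc (M N P : (ModSite.Mod O)) :
    ((ModSite.tensorBi O).obj (((ModSite.tensorBi O).obj M).obj N)).obj P ≅
      ((ModSite.tensorBi O).obj M).obj (((ModSite.tensorBi O).obj N).obj P) :=
  (tensor12Iso M N P).symm ≪≫ (shf O).mapIso (α_ _ _ _) ≪≫ tensor23Iso M N P

/-- A morphism of tensor products. -/
noncomputable abbrev tMap {M M' N N' : (ModSite.Mod O)} (f : M ⟶ M') (g : N ⟶ N') :
    ((ModSite.tensorBi O).obj M).obj N ⟶ ((ModSite.tensorBi O).obj M').obj N' :=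
  (shf O).map ((forgetP O).map f ⊗ₘ (forgetP O).map g)

theorem tMap_right (M : (ModSite.Mod O)) {N N' : (ModSite.Mod O)} (g : N ⟶ N') :
    ((ModSite.tensorBi O).obj M).map g = tMap (𝟙 M) g := by
  rw [tMap, CategoryTheory.Functor.map_id, id_tensorHom]
  rfl

theorem tMap_left {M M' : (ModSite.Mod O)} (f : M ⟶ M') (N : (ModSite.Mod O)) :
    ((ModSite.tensorBi O).map f).app N = tMap f (𝟙 N) := by
  rw [tMap, CategoryTheory.Functor.map_id, tensorHom_id]
  rfl

theorem tensorAssoc_natural {M M' N N' P P' : (ModSite.Mod O)} (f : M ⟶ M') (g : N ⟶ N') (h : P ⟶ P') :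
    tMap (tMap f g) h ≫ (tensorAssoc M' N' P').hom = (tensorAssoc M N P).hom ≫ tMap f (tMap g h) := by
  let a := (forgetP O).map f
  let b := (forgetP O).map g
  let c := (forgetP O).map h
  have h12 : (tensor12Iso M N P).hom ≫ tMap (tMap f g) h =
      (shf O).map ((a ⊗ₘ b) ⊗ₘ c) ≫ (tensor12Iso M' N' P').hom := by
    change (shf O).map _ ≫ (shf O).map _ = (shf O).map _ ≫ (shf O).map _
    refine ((shf O).map_comp _ _).symm.trans (Eq.trans ?_ ((shf O).map_comp _ _))
    refine congrArg (shf O).map ?_
    rw [← tensorHom_id, ← tensorHom_id]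
    refine (tensorHom_comp_tensorHom _ _ _ _).trans (Eq.trans ?_ (tensorHom_comp_tensorHom _ _ _ _).symm)
    refine (congrArg (_ ⊗ₘ ·) (Category.id_comp _)).trans (Eq.trans ?_ (congrArg (_ ⊗ₘ ·) (Category.comp_id _)).symm)
    exact congrArg (· ⊗ₘ c) ((shfAdj O).unit.naturality (a ⊗ₘ b)).symm
  have h23 : (tensor23Iso M N P).hom ≫ tMap f (tMap g h) =
      (shf O).map (a ⊗ₘ (b ⊗ₘ c)) ≫ (tensor23Iso M' N' P').hom := by
    change (shf O).map _ ≫ (shf O).map _ = (shf O).map _ ≫ (shf O).map _
    refine ((shf O).map_comp _ _).symm.trans (Eq.trans ?_ ((shf O).map_comp _ _))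
    refine congrArg (shf O).map ?_
    rw [← id_tensorHom, ← id_tensorHom]
    refine (tensorHom_comp_tensorHom _ _ _ _).trans (Eq.trans ?_ (tensorHom_comp_tensorHom _ _ _ _).symm)
    refine (congrArg (· ⊗ₘ _) (Category.id_comp _)).trans (Eq.trans ?_ (congrArg (· ⊗ₘ _) (Category.comp_id _)).symm)
    exact congrArg (a ⊗ₘ ·) ((shfAdj O).unit.naturality (b ⊗ₘ c)).symm
  rw [← cancel_epi (tensor12Iso M N P).hom, reassoc_of% h12]
  simp only [tensorAssoc, Iso.trans_hom, Iso.symm_hom, Functor.mapIso_hom, Category.assoc, Iso.hom_inv_id_assoc]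
  rw [h23, ← Functor.map_comp_assoc, associator_naturality, Functor.map_comp_assoc]

theorem tMap_id (M N : (ModSite.Mod O)) : tMap (𝟙 M) (𝟙 N) = 𝟙 _ := by
  rw [tMap, CategoryTheory.Functor.map_id, CategoryTheory.Functor.map_id, id_tensorHom_id]
  exact (shf O).map_id _

theorem tensorAssoc_natural₃ (M N : (ModSite.Mod O)) {P P' : (ModSite.Mod O)} (h : P ⟶ P') :
    ((bifunctorComp₁₂ (ModSite.tensorBi O) (ModSite.tensorBi O)).obj M |>.obj N).map h ≫ (tensorAssoc M N P').hom =
      (tensorAssoc M N P).hom ≫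
        ((bifunctorComp₂₃ (ModSite.tensorBi O) (ModSite.tensorBi O)).obj M |>.obj N).map h := by
  change ((ModSite.tensorBi O).obj _).map h ≫ _ =
    _ ≫ ((ModSite.tensorBi O).obj M).map (((ModSite.tensorBi O).obj N).map h)
  rw [tMap_right, tMap_right, tMap_right, ← tensorAssoc_natural]
  exact congrArg (· ≫ _) (congrArg (tMap · h) (tMap_id M N).symm)

theorem tensorAssoc_natural₂ (M : (ModSite.Mod O)) {N N' : (ModSite.Mod O)} (g : N ⟶ N') (P : (ModSite.Mod O)) :
    (((bifunctorComp₁₂ (ModSite.tensorBi O) (ModSite.tensorBi O)).obj M).map g).app P ≫ (tensorAssoc M N' P).hom =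
      (tensorAssoc M N P).hom ≫
        (((bifunctorComp₂₃ (ModSite.tensorBi O) (ModSite.tensorBi O)).obj M).map g).app P := by
  change ((ModSite.tensorBi O).map (((ModSite.tensorBi O).obj M).map g)).app P ≫ _ =
    _ ≫ ((ModSite.tensorBi O).obj M).map (((ModSite.tensorBi O).map g).app P)
  rw [tMap_left, tMap_right, tMap_right, tMap_left]
  exact tensorAssoc_natural _ _ _

theorem tensorAssoc_natural₁ {M M' : (ModSite.Mod O)} (f : M ⟶ M') (N P : (ModSite.Mod O)) :
    (((bifunctorComp₁₂ (ModSite.tensorBi O) (ModSite.tensorBi O)).map f).app N).app P ≫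
        (tensorAssoc M' N P).hom =
      (tensorAssoc M N P).hom ≫
        (((bifunctorComp₂₃ (ModSite.tensorBi O) (ModSite.tensorBi O)).map f).app N).app P := by
  change ((ModSite.tensorBi O).map (((ModSite.tensorBi O).map f).app N)).app P ≫ _ =
    _ ≫ ((ModSite.tensorBi O).map f).app (((ModSite.tensorBi O).obj N).obj P)
  rw [tMap_left, tMap_left, tMap_left]
  exact (tensorAssoc_natural _ _ _).trans (congrArg (_ ≫ ·) (congrArg (tMap f) (tMap_id N P)))

/-- The associator as an isomorphism of trifunctors. -/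
noncomputable def tensorAssocNatIso :
    bifunctorComp₁₂ (ModSite.tensorBi O) (ModSite.tensorBi O) ≅
      bifunctorComp₂₃ (ModSite.tensorBi O) (ModSite.tensorBi O) :=
  NatIso.ofComponents
    (fun M => NatIso.ofComponents
      (fun N => NatIso.ofComponents (fun P => tensorAssoc M N P) (fun h => tensorAssoc_natural₃ M N h))
      (fun g => NatTrans.ext (funext fun P => tensorAssoc_natural₂ M g P)))
    (fun f => NatTrans.ext (funext fun N => NatTrans.ext (funext fun P => tensorAssoc_natural₁ f N P)))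

instance preservesSmallestColimits_tensorBi_flip_obj (N : (ModSite.Mod O)) :
    PreservesColimitsOfSize.{0, 0} ((ModSite.tensorBi O).flip.obj N) :=
  preservesSmallestColimits_of_preservesColimits _

/-- Associativity of the tensor product of complexes. -/
noncomputable def tensorCxAssoc (K L M : CochainComplex (ModSite.Mod O) ℤ) :
    ((ModSite.tensorCx O).obj (((ModSite.tensorCx O).obj K).obj L)).obj M ≅
      ((ModSite.tensorCx O).obj K).obj (((ModSite.tensorCx O).obj L).obj M) :=
  HomologicalComplex.mapBifunctorAssociator (tensorAssocNatIso (O := O)) K L M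
    (ComplexShape.up ℤ) (ComplexShape.up ℤ) (ComplexShape.up ℤ)

/-- A tensor product of K-flat complexes is K-flat. -/
theorem isKFlat_tensor {K L : CochainComplex (ModSite.Mod O) ℤ} (hK : ModSite.IsKFlat K) (hL : ModSite.IsKFlat L) :
    ModSite.IsKFlat (((ModSite.tensorCx O).obj K).obj L) :=
  (isKFlat_iff _).2 fun A hA => DerCat.acyclic_of_iso (tensorCxAssoc A K L)
    ((isKFlat_iff L).1 hL _ ((isKFlat_iff K).1 hK A hA))

end GrothLib.ModFlat
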