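import Groth.Agent.Lib.ModFlat.Basic
import Groth.Agent.Lib.DerCat.Acyclic
import Groth.Agent.Lib.KInj.SiteMod
import Groth.Prelude.Def_KFlatSite
import Mathlib.CategoryTheory.Abelian.GrothendieckAxioms.Colim
import Mathlib.CategoryTheory.Limits.FunctorCategory.Basic
import Mathlib.Algebra.Homology.BifunctorShift
import Mathlib.Algebra.Homology.HomologicalComplexBiprod
import Mathlib.CategoryTheory.Category.ULift

/-! # The tensor product of complexes of modules on a ringed site: colimits and exactness -/

set_option autoImplicit false
universe u

open CategoryTheory CategoryTheory.Limits Opposite MonoidalCategory HomologicalComplex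

namespace GrothLib.ModFlat

variable {C : Type u} [SmallCategory C] {J : GrothendieckTopology C} {O : Sheaf J CommRingCat.{u}}

attribute [local instance] hasFiniteLimits_of_hasLimitsOfSize Abelian.hasFiniteBiproducts

instance ab5_mod : AB5 (ModSite.Mod O) := KInj.ab5_sheafOfModules _

instance ab4_mod : AB4 (ModSite.Mod O) := AB4.of_AB5 _

instance preservesColimitsOfSize_tensorBi_obj (M : ModSite.Mod O) :
    PreservesColimitsOfSize.{u, u} ((ModSite.tensorBi O).obj M) :=
  preservesColimits_tensorLeft M

instance preservesColimitsOfSize_tensorBi_flip_obj (N : ModSite.Mod O) :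
    PreservesColimitsOfSize.{u, u} ((ModSite.tensorBi O).flip.obj N) :=
  preservesColimits_T N

instance hasExactColimitsOfShape_nat : HasExactColimitsOfShape ℕ (ModSite.Mod O) :=
  have : HasExactColimitsOfShape (ULiftHom.{u} (ULift.{u} ℕ)) (ModSite.Mod O) := AB5OfSize.ofShape _
  HasExactColimitsOfShape.of_domain_equivalence (ModSite.Mod O) (ULiftHomULiftCategory.equiv.{u, u} ℕ).symm

instance hasExactColimitsOfShape_discrete_int : HasExactColimitsOfShape (Discrete ℤ) (ModSite.Mod O) :=
  have : AB4 (ModSite.Mod O) := AB4.of_AB5 _
  have : HasExactColimitsOfShape (Discrete (ULift.{u} ℤ)) (ModSite.Mod O) := AB4OfSize.ofShape _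
  HasExactColimitsOfShape.of_domain_equivalence (ModSite.Mod O) (Discrete.equivalence Equiv.ulift)

variable (L : CochainComplex (ModSite.Mod O) ℤ) (n : ℤ)

/-- The family of summands of degree `n` of the tensor product with `L`. -/
noncomputable def summandsFun : CochainComplex (ModSite.Mod O) ℤ ⥤ (Discrete ℤ ⥤ (ModSite.Mod O)) where
  obj K := Discrete.functor fun p => ((ModSite.tensorBi O).obj (L.X p)).obj (K.X (n - p))
  map f := Discrete.natTrans fun p => ((ModSite.tensorBi O).obj (L.X p.as)).map (f.f (n - p.as))

/-- The degree `n` part of the tensor product with `L` is a coproduct. -/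
noncomputable def degIso :
    summandsFun L n ⋙ colim ≅ (ModSite.tensorCx O).obj L ⋙ HomologicalComplex.eval (ModSite.Mod O) (ComplexShape.up ℤ) n :=
  NatIso.ofComponents
    (fun K =>
      { hom := Sigma.desc fun p => HomologicalComplex.ιMapBifunctor L K (ModSite.tensorBi O) (ComplexShape.up ℤ) p (n - p) n
          (show p + (n - p) = n by omega)
        inv := HomologicalComplex.mapBifunctorDesc fun p q h =>
          ((ModSite.tensorBi O).obj (L.X p)).map (eqToHom (congrArg K.X (show q = n - p by
            have h' : p + q = n := h
            omega))) ≫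
            Sigma.ι (fun p => ((ModSite.tensorBi O).obj (L.X p)).obj (K.X (n - p))) p
        hom_inv_id := Sigma.hom_ext _ _ fun p => by
          erw [Sigma.ι_desc_assoc, HomologicalComplex.ι_mapBifunctorDesc, Category.comp_id]
          rw [eqToHom_refl, CategoryTheory.Functor.map_id, Category.id_comp]
        inv_hom_id := by
          refine HomologicalComplex.mapBifunctor.hom_ext fun p q h => ?_
          obtain rfl : q = n - p := by
            have h' : p + q = n := h
            omega
          erw [← Category.assoc, HomologicalComplex.ι_mapBifunctorDesc, Category.assoc, Sigma.ι_desc, Category.comp_id]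
          rw [eqToHom_refl, CategoryTheory.Functor.map_id, Category.id_comp] })
    (fun {K K'} f => colimit.hom_ext fun ⟨p⟩ => by
      change colimit.ι ((summandsFun L n).obj K) ⟨p⟩ ≫ colimMap ((summandsFun L n).map f) ≫ _ = _
      simp [summandsFun]
      erw [HomologicalComplex.ι_mapBifunctorMap]
      simp
      rfl)

instance preservesColimitsOfSize_summandsFun : PreservesColimitsOfSize.{u, u} (summandsFun L n) where
  preservesColimitsOfShape {J} _ := preservesColimitsOfShape_of_evaluation _ _ fun p =>
    preservesColimitsOfShape_of_natIso (J := J)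
      (F := HomologicalComplex.eval (ModSite.Mod O) (ComplexShape.up ℤ) (n - p.as) ⋙ (ModSite.tensorBi O).obj (L.X p.as))
      (NatIso.ofComponents fun _ => Iso.refl _)

instance preservesColimitsOfSize_tensorCx_obj :
    PreservesColimitsOfSize.{u, u} ((ModSite.tensorCx O).obj L) where
  preservesColimitsOfShape {J} _ := ⟨fun {K} => ⟨fun {c} hc => ⟨HomologicalComplex.isColimitOfEval _ _ fun m =>
    have : PreservesColimitsOfShape J (summandsFun L m ⋙ colim) := comp_preservesColimitsOfShape _ _
    have : PreservesColimitsOfShape J ((ModSite.tensorCx O).obj L ⋙ HomologicalComplex.eval (ModSite.Mod O) (ComplexShape.up ℤ) m) :=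
      preservesColimitsOfShape_of_natIso (degIso L m)
    isColimitOfPreserves ((ModSite.tensorCx O).obj L ⋙ HomologicalComplex.eval (ModSite.Mod O) (ComplexShape.up ℤ) m) hc⟩⟩⟩

instance preservesSmallestColimits_tensorBi_obj (N : (ModSite.Mod O)) :
    PreservesColimitsOfSize.{0, 0} ((ModSite.tensorBi O).obj N) :=
  preservesSmallestColimits_of_preservesColimits _

instance preservesSmallestColimits_tensorCx_obj  :
    PreservesColimitsOfSize.{0, 0} ((ModSite.tensorCx O).obj L) :=
  preservesSmallestColimits_of_preservesColimits _

instance additive_tensorCx_obj  : ((ModSite.tensorCx O).obj L).Additive :=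
  have : ((ModSite.tensorCx O).obj L).PreservesZeroMorphisms :=
    Functor.preservesZeroMorphisms_of_preserves_initial_object
  haveI : HasBinaryBiproducts (CochainComplex (ModSite.Mod O) ℤ) := HasBinaryBiproducts.of_hasBinaryProducts
  have := preservesBinaryBiproducts_of_preservesBinaryCoproducts ((ModSite.tensorCx O).obj L)
  Functor.additive_of_preservesBinaryBiproducts _

/-- Tensoring with a complex is exact on sequences whose terms are exact for the tensor product. -/
theorem tensorCx_map_shortExact (S : ShortComplex (CochainComplex (ModSite.Mod O) ℤ))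
    (h : ∀ (M : (ModSite.Mod O)) (q : ℤ),
      ((S.map (HomologicalComplex.eval (ModSite.Mod O) (ComplexShape.up ℤ) q)).map ((ModSite.tensorBi O).obj M)).ShortExact) :
    (S.map ((ModSite.tensorCx O).obj L)).ShortExact := by
  refine HomologicalComplex.shortExact_of_degreewise_shortExact _ fun m => ?_
  have : (summandsFun L m).PreservesZeroMorphisms := ⟨fun K K' => NatTrans.ext (funext fun p =>
    (((ModSite.tensorBi O).obj (L.X p.as)).map_zero _ _))⟩
  have hS : (S.map (summandsFun L m)).ShortExact :=
    { exact := by
        rw [ShortComplex.exact_iff_isZero_homology]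
        refine Functor.isZero _ fun p => ?_
        exact IsZero.of_iso ((ShortComplex.exact_iff_isZero_homology _).1 (h (L.X p.as) (m - p.as)).exact)
          ((S.map (summandsFun L m)).mapHomologyIso ((evaluation _ _).obj p)).symm
      mono_f := (NatTrans.mono_iff_mono_app _).2 fun p => (h (L.X p.as) (m - p.as)).mono_f
      epi_g := (NatTrans.epi_iff_epi_app _).2 fun p => (h (L.X p.as) (m - p.as)).epi_g }
  exact ShortComplex.shortExact_of_iso
    (ShortComplex.isoMk ((degIso L m).app _) ((degIso L m).app _) ((degIso L m).app _)
      ((degIso L m).hom.naturality S.f).symm ((degIso L m).hom.naturality S.g).symm)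
    (hS.map_of_exact (colim (J := Discrete ℤ) (C := (ModSite.Mod O))))

variable (M : (ModSite.Mod O))

/-- Tensor product is right exact. -/
theorem tensor_right_exact {S : ShortComplex (ModSite.Mod O)} (hS : S.ShortExact) :
    (S.map ((ModSite.tensorBi O).obj M)).Exact ∧ Epi (((ModSite.tensorBi O).obj M).map S.g) :=
  have := PreservesColimits.preservesFiniteColimits ((ModSite.tensorBi O).obj M)
  (((ModSite.tensorBi O).obj M).preservesFiniteColimits_tfae.out 3 0
    (a := PreservesFiniteColimits ((ModSite.tensorBi O).obj M))
    (b := ∀ S : ShortComplex (ModSite.Mod O), S.ShortExact →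
      (S.map ((ModSite.tensorBi O).obj M)).Exact ∧ Epi (((ModSite.tensorBi O).obj M).map S.g))).1
    inferInstance S hS

/-- A short exact sequence with flat cokernel stays short exact after tensoring. -/
theorem tensor_left_shortExact {S : ShortComplex (ModSite.Mod O)} (hS : S.ShortExact) (h₃ : ModSite.IsFlat S.X₃) :
    (S.map ((ModSite.tensorBi O).obj M)).ShortExact := by
  refine { exact := (tensor_right_exact M hS).1, mono_f := ?_, epi_g := (tensor_right_exact M hS).2 }
  have := mono_map_of_flat_right S hS h₃ M
  exact ((MorphismProperty.monomorphisms _).arrow_mk_iso_iff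
    (Arrow.isoMk (((tensorSymm O).app M).app S.X₁) (((tensorSymm O).app M).app S.X₂)
      (((tensorSymm O).app M).hom.naturality S.f).symm)).2 this

/-- Tensoring with a flat module on the right is exact. -/
theorem tensor_map_shortExact {F : ModSite.Mod O} (hF : ModSite.IsFlat F) {S : ShortComplex (ModSite.Mod O)}
    (hS : S.ShortExact) [((ModSite.tensorBi O).flip.obj F).PreservesZeroMorphisms] :
    (S.map ((ModSite.tensorBi O).flip.obj F)).ShortExact := by
  have : PreservesFiniteLimits ((ModSite.tensorBi O).flip.obj F) := hF.1
  have : PreservesFiniteColimits ((ModSite.tensorBi O).flip.obj F) := hF.2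
  exact hS.map_of_exact _

end GrothLib.ModFlat
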